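import Groth.Agent.AbscissaLB75.Diverge
import Groth.Agent.ZetaLib.EulerProduct
import Mathlib.AlgebraicGeometry.Properties
import Mathlib.Topology.Sober

/-!
The abscissa of convergence of the zeta function of an arithmetic scheme is its dimension.
-/

noncomputable section

universe u

open CategoryTheory AlgebraicGeometry

namespace Groth.Agent.AbscissaLB75

open ZetaLib (ClosedPt ptNorm mon)

variable {X : Scheme.{u}} (f : X ⟶ Spec (CommRingCat.of (ULift.{u} ℤ))) [LocallyOfFiniteType f]

include f in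
theorem jacobsonSpace : JacobsonSpace X := by
  haveI : IsJacobsonRing (ULift.{u} ℤ) :=
    haveI := ZetaLib.isJacobsonRing_int
    (isJacobsonRing_iso (ULift.ringEquiv (R := ℤ)).symm).1 inferInstance
  haveI : JacobsonSpace (Spec (CommRingCat.of (ULift.{u} ℤ))) :=
    PrimeSpectrum.isJacobsonRing_iff_jacobsonSpace.1 inferInstance
  exact LocallyOfFiniteType.jacobsonSpace f

/-- A chain of primes of length at least `r` starts above a minimal prime with a quotient of dimension at least `r`. -/
theorem exists_quotient_dim {A : Type u} [CommRing A] (l : LTSeries (PrimeSpectrum A)) :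
    ∃ P : Ideal A, P.IsPrime ∧ (l.length : WithBot ℕ∞) ≤ ringKrullDim (A ⧸ P) := by
  refine ⟨l.head.asIdeal, l.head.isPrime, ?_⟩
  have hle : ∀ i, l.head.asIdeal ≤ (l i).asIdeal := fun i => l.head_le i
  let g : Fin (l.length + 1) → PrimeSpectrum (A ⧸ l.head.asIdeal) := fun i =>
    ⟨(l i).asIdeal.map (Ideal.Quotient.mk _), Ideal.map_isPrime_of_surjective Ideal.Quotient.mk_surjective
      (by rw [Ideal.mk_ker]; exact hle i)⟩
  have hc : ∀ i, (g i).asIdeal.comap (Ideal.Quotient.mk _) = (l i).asIdeal := fun i => by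
    show Ideal.comap _ (Ideal.map _ _) = _
    rw [Ideal.comap_map_of_surjective _ Ideal.Quotient.mk_surjective, ← RingHom.ker_eq_comap_bot, Ideal.mk_ker,
      sup_eq_left]
    exact hle i
  exact Order.LTSeries.length_le_krullDim
    { length := l.length
      toFun := g
      step := fun i => by
        refine lt_of_le_of_ne (Ideal.map_mono (l.step i).le) fun h => (l.step i).ne (PrimeSpectrum.ext ?_)
        exact (hc _).symm.trans ((congrArg (Ideal.comap (Ideal.Quotient.mk l.head.asIdeal)) h).trans (hc _)) }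

include f in
theorem exists_affine_dim [QuasiCompact f] (r : ℕ) (hr : (r : WithBot ℕ∞) ≤ topologicalKrullDim X) :
    ∃ (A : CommRingCat.{u}) (j : Spec A ⟶ X), IsOpenImmersion j ∧ Algebra.FiniteType ℤ A ∧
      (r : WithBot ℕ∞) ≤ ringKrullDim A := by
  obtain ⟨n, A, j, hj, hA, -, hcov⟩ := ZetaLib.exists_affine_cover f
  let := specializationOrder ↥X
  rw [topologicalKrullDim, Order.krullDim_eq_of_orderIso irreducibleSetEquivPoints] at hr
  obtain ⟨l, hl⟩ := Order.le_krullDim_iff.1 hr
  obtain ⟨i, hi⟩ := hcov l.head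
  refine ⟨A i, j i, hj i, hA i, ?_⟩
  have hmem : ∀ t, l t ∈ Set.range (j i) := fun t =>
    (l.head_le t : l t ⤳ l.head).mem_open (j i).isOpenEmbedding.isOpen_range hi
  choose g hg using hmem
  rw [ringKrullDim, ← Order.krullDim_orderDual, ← hl]
  refine Order.LTSeries.length_le_krullDim
    { length := l.length
      toFun := fun t => OrderDual.toDual (α := PrimeSpectrum (A i)) (g t)
      step := fun t => ?_ }
  have h1 : g t.succ ⤳ g t.castSucc :=
    (j i).isOpenEmbedding.isInducing.specializes_iff.1 (by rw [hg, hg]; exact (l.step t).le)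
  refine lt_of_le_of_ne ((PrimeSpectrum.le_iff_specializes _ _).2 h1) fun h2 => (show l t.castSucc < l t.succ from l.step t).ne ?_
  rw [← hg, ← hg]
  exact congrArg (j i) h2.symm

variable [QuasiCompact f]

include f in
theorem finite_cycles (r : ℕ) (hr : topologicalKrullDim X ≤ r) (n : ℕ) :
    Finite {β : ClosedPt X →₀ ℕ // mon ptNorm β = n} := by
  classical
  set σ : ℝ := r + 1
  let z : ClosedPt X → ℝ := fun x => (ptNorm x : ℝ) ^ (-σ)
  have hpos : ∀ x : ClosedPt X, 0 < ptNorm x := fun x => by linarith [ZetaLib.two_le_ptNorm f x]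
  have hsum : Summable (mon z) :=
    ZetaLib.summable_mon z ((2 : ℝ) ^ (-σ)) (Real.rpow_lt_one_of_one_lt_of_neg one_lt_two
      (by simp only [σ]; linarith [Nat.cast_nonneg (α := ℝ) r]))
      (fun x => Real.rpow_nonneg (Nat.cast_nonneg _) _)
      (fun x => Real.rpow_le_rpow_of_nonpos two_pos (by exact_mod_cast ZetaLib.two_le_ptNorm f x)
        (by simp only [σ]; linarith [Nat.cast_nonneg (α := ℝ) r]))
      (ZetaLib.summable_ptNorm f r hr (by simp only [σ]; linarith))
  have hn : ∀ β : {β : ClosedPt X →₀ ℕ // mon ptNorm β = n}, mon z β.1 = (n : ℝ) ^ (-σ) := fun β => by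
    have h : ((mon ptNorm β.1 : ℕ) : ℝ) ^ (-σ) = mon z β.1 := by
      simp only [mon, Finsupp.prod]
      rw [Nat.cast_prod, ← Real.finsetProd_rpow _ _ fun _ _ => Nat.cast_nonneg _]
      refine Finset.prod_congr rfl fun x _ => ?_
      rw [Nat.cast_pow, ← Real.rpow_natCast_mul (Nat.cast_nonneg _), mul_comm,
        Real.rpow_mul (Nat.cast_nonneg _), Real.rpow_natCast]
    rw [← h, β.2]
  rcases Nat.eq_zero_or_pos n with rfl | hnpos
  · have : IsEmpty {β : ClosedPt X →₀ ℕ // mon ptNorm β = 0} := ⟨fun β => by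
      have h0 := β.2
      simp only [mon, Finsupp.prod, Finset.prod_eq_zero_iff, pow_eq_zero_iff'] at h0
      obtain ⟨x, -, hx, -⟩ := h0
      exact (hpos x).ne' hx⟩
    infer_instance
  · by_contra hinf
    haveI : Infinite {β : ClosedPt X →₀ ℕ // mon ptNorm β = n} := not_finite_iff_infinite.1 hinf
    have h1 : Summable fun _ : {β : ClosedPt X →₀ ℕ // mon ptNorm β = n} => (n : ℝ) ^ (-σ) :=
      (hsum.subtype {β | mon ptNorm β = n}).congr hn
    exact (Real.rpow_pos_of_pos (Nat.cast_pos.2 hnpos) _).ne' ((summable_const_iff _).1 h1)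

include f in
theorem summable_of_summable_coeff (r : ℕ) (hr : topologicalKrullDim X ≤ r) {σ : ℝ} 
    (h : Summable fun n : ℕ => (Zeta.cycleNormCount X n : ℝ) * (n : ℝ) ^ (-σ)) :
    Summable fun β : ClosedPt X →₀ ℕ => ((mon ptNorm β : ℕ) : ℝ) ^ (-σ) := by
  classical
  rw [← (Equiv.sigmaFiberEquiv (mon (ptNorm (X := X)))).summable_iff]
  refine (summable_sigma_of_nonneg fun β => Real.rpow_nonneg (Nat.cast_nonneg _) _).2 ⟨fun n => ?_, ?_⟩
  · haveI := finite_cycles f r hr n
    exact Summable.of_finite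
  · refine h.congr fun n => ?_
    have hval : ∀ β : {β : ClosedPt X →₀ ℕ // mon ptNorm β = n},
        (((mon ptNorm ((Equiv.sigmaFiberEquiv (mon ptNorm)) ⟨n, β⟩)) : ℕ) : ℝ) ^ (-σ) = (n : ℝ) ^ (-σ) :=
      fun β => by rw [Equiv.sigmaFiberEquiv_apply, β.2]
    rw [tsum_congr hval, tsum_const, nsmul_eq_mul, Zeta.cycleNormCount, Nat.card_congr (ZetaLib.cycleEquiv X n)]

include f in
/-- The closed point of `X` of a maximal ideal of an affine open. -/
theorem exists_injective_norm {A : CommRingCat.{u}} (j : Spec A ⟶ X) [IsOpenImmersion j] (P : Ideal A) :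
    ∃ F : MaximalSpectrum (A ⧸ P) → ClosedPt X, Function.Injective F ∧
      ∀ m, ptNorm (F m) = Nat.card ((A ⧸ P) ⧸ m.1) := by
  haveI := jacobsonSpace f
  have hmax : ∀ m : MaximalSpectrum (A ⧸ P), (m.1.comap (Ideal.Quotient.mk P)).IsMaximal := fun m =>
    haveI := m.isMaximal
    Ideal.comap_isMaximal_of_surjective _ Ideal.Quotient.mk_surjective
  let q : MaximalSpectrum (A ⧸ P) → ↥(Spec A) := fun m => ⟨m.1.comap (Ideal.Quotient.mk P), (hmax m).isPrime⟩
  have hcl : ∀ m, IsClosed ({j (q m)} : Set X) := fun m => by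
    refine isClosed_singleton_of_isLocallyClosed_singleton ?_
    rw [← Set.image_singleton]
    exact (PrimeSpectrum.isClosed_singleton_iff_isMaximal (q m)).2 (hmax m) |>.isLocallyClosed.image
      j.isOpenEmbedding.isInducing j.isOpenEmbedding.isOpen_range.isLocallyClosed
  refine ⟨fun m => ⟨j (q m), hcl m⟩, fun m m' h => ?_, fun m => ?_⟩
  · have h1 : q m = q m' := j.isOpenEmbedding.injective (congrArg Subtype.val h)
    exact MaximalSpectrum.ext (Ideal.comap_injective_of_surjective _ Ideal.Quotient.mk_surjective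
      (congrArg PrimeSpectrum.asIdeal h1))
  · show Nat.card (X.residueField (j (q m))) = _
    haveI : IsIso (j.residueFieldMap (q m)) := inferInstance
    rw [Nat.card_congr (asIso (j.residueFieldMap (q m))).commRingCatIsoToRingEquiv.toEquiv,
      Nat.card_congr (Scheme.Spec.residueFieldIso A (q m)).commRingCatIsoToRingEquiv.toEquiv]
    haveI := hmax m
    rw [← Nat.card_congr (RingEquiv.ofBijective _
      ((q m).asIdeal.bijective_algebraMap_quotient_residueField)).toEquiv]
    exact Nat.card_congr ((Ideal.quotEquivOfEq (by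
      show m.1.comap (Ideal.Quotient.mk P) = RingHom.ker ((Ideal.Quotient.mk m.1).comp (Ideal.Quotient.mk P))
      rw [← RingHom.comap_ker, Ideal.mk_ker])).trans (RingHom.quotientKerEquivOfSurjective
      (f := (Ideal.Quotient.mk m.1).comp (Ideal.Quotient.mk P))
      (Ideal.Quotient.mk_surjective.comp Ideal.Quotient.mk_surjective))).toEquiv

include f in
/-- **The abscissa of convergence is the dimension.** -/
theorem abscissa_eq (r : ℕ) (hr : topologicalKrullDim X = r) :
    LSeries.abscissaOfAbsConv (Zeta.arithCoeff X) = (r : ℝ) := by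
  classical
  refine le_antisymm (ZetaLib.abscissa_le f r hr.le) (le_sInf ?_)
  rintro _ ⟨x, hx, rfl⟩
  rw [EReal.coe_le_coe_iff]
  by_contra hlt
  push Not at hlt
  have ha0 : Zeta.cycleNormCount X 0 = 0 := by
    rw [Zeta.cycleNormCount, Nat.card_congr (ZetaLib.cycleEquiv X 0)]
    have : IsEmpty {β : ClosedPt X →₀ ℕ // mon ptNorm β = 0} := ⟨fun β => by
      have h0 := β.2
      simp only [mon, Finsupp.prod, Finset.prod_eq_zero_iff, pow_eq_zero_iff'] at h0
      obtain ⟨y, -, hy, -⟩ := h0
      have := ZetaLib.two_le_ptNorm f y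
      omega⟩
    exact Nat.card_of_isEmpty
  have hsum : Summable fun n : ℕ => (Zeta.cycleNormCount X n : ℝ) * (n : ℝ) ^ (-x) := by
    refine (Summable.congr hx.norm fun n => ?_)
    rcases eq_or_ne n 0 with rfl | hn
    · simp [ha0]
    · rw [LSeries.norm_term_eq, if_neg hn, Zeta.arithCoeff, Complex.norm_natCast, Complex.ofReal_re,
        Real.rpow_neg (Nat.cast_nonneg _), div_eq_mul_inv]
  have hcyc := summable_of_summable_coeff f r hr.le hsum
  obtain ⟨A, j, hj, hA, hdim⟩ := exists_affine_dim f r hr.ge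
  obtain ⟨l, hl⟩ := Order.le_krullDim_iff.1 hdim
  obtain ⟨P, hP, hPdim⟩ := exists_quotient_dim l
  rw [hl] at hPdim
  obtain ⟨F, hF, hFn⟩ := exists_injective_norm f j P
  have hft : Algebra.FiniteType ℤ (A ⧸ P) :=
    Algebra.FiniteType.of_surjective (Ideal.Quotient.mkₐ ℤ P) (Ideal.Quotient.mkₐ_surjective ℤ P)
  rcases lt_or_ge x 0 with hx0 | hx0
  · obtain ⟨m, hm⟩ := Ideal.exists_maximal (A ⧸ P)
    let y := F ⟨m, hm⟩
    have h1 : Summable fun n : ℕ => ((mon ptNorm (Finsupp.single y n) : ℕ) : ℝ) ^ (-x) :=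
      hcyc.comp_injective (Finsupp.single_injective y)
    have h2 : Summable fun _ : ℕ => (1 : ℝ) := by
      refine Summable.of_nonneg_of_le (fun _ => zero_le_one) (fun n => ?_) h1
      refine Real.one_le_rpow ?_ (by linarith)
      rw [ZetaLib.mon_single]
      exact_mod_cast Nat.one_le_pow _ _ (by linarith [ZetaLib.two_le_ptNorm f y])
    exact one_ne_zero ((summable_const_iff _).1 h2)
  · have h1 : Summable fun y : ClosedPt X => (ptNorm y : ℝ) ^ (-x) := by
      refine (hcyc.comp_injective (i := fun y : ClosedPt X => Finsupp.single y 1)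
        (Finsupp.single_left_injective one_ne_zero)).congr fun y => ?_
      simp only [Function.comp_apply]
      rw [ZetaLib.mon_single, pow_one]
    have hft' : @Algebra.FiniteType ℤ (↑A ⧸ P) _ _ (Ring.toIntAlgebra _) := by
      rw [← RingHom.finiteType_algebraMap, RingHom.ext_int (@algebraMap ℤ (↑A ⧸ P) _ _ (Ring.toIntAlgebra _))
        (algebraMap ℤ (↑A ⧸ P))]
      exact RingHom.finiteType_algebraMap.2 hft
    refine @not_summable_resCard (↑A ⧸ P) _ _ hft' r hPdim x hx0 hlt ((h1.comp_injective hF).congr fun m => ?_)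
    simp only [Function.comp_apply, hFn]

end Groth.Agent.AbscissaLB75
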