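import Groth.Agent.ZetaLib.EulerProduct
import Mathlib.NumberTheory.NumberField.Ideal.Asymptotics

/-!
The primes with a degree one prime of a given number field above them form a set over which
`Σ p ^ (-σ)` diverges for `σ < 1`.
-/

noncomputable section

namespace Groth.Agent.AbscissaLB75

open NumberField Filter UniqueFactorizationMonoid
open scoped Topology

variable (M : Type*) [Field M] [NumberField M]

/-- The primes `p` with a homomorphism to `ZMod p` not killing `a`. -/
def splitPrimes (a : 𝓞 M) : Set ℕ := {p | p.Prime ∧ ∃ φ : 𝓞 M →+* ZMod p, φ a ≠ 0}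

/-- The maximal ideals of the integers. -/
abbrev Primes : Type _ := {P : Ideal (𝓞 M) // P.IsMaximal}

variable {M}

theorem prime_of_isMaximal (P : Primes M) : Prime P.1 :=
  Ideal.prime_of_isPrime (Ring.ne_bot_of_isMaximal_of_not_isField P.2 (RingOfIntegers.not_isField M))
    P.2.isPrime

theorem card_primesOver_le (p : ℕ) (hp : p.Prime) (u : Finset (Primes M))
    (hu : ∀ P ∈ u, p ∣ Ideal.absNorm P.1) : u.card ≤ Module.finrank ℤ (𝓞 M) := by
  classical
  have hdvd : (u.map (Function.Embedding.subtype _)).prod id ∣ Ideal.span {(p : 𝓞 M)} := by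
    refine Finset.prod_primes_dvd _ (fun P hP => ?_) fun P hP => ?_
    · obtain ⟨P, -, rfl⟩ := Finset.mem_map.1 hP
      exact prime_of_isMaximal P
    · obtain ⟨P, hPu, rfl⟩ := Finset.mem_map.1 hP
      have := P.2
      obtain ⟨q, n, hn, -, hq, hqn⟩ := Ideal.exists_prime_and_absNorm_eq_pow P.1
      obtain rfl : p = q := (Nat.prime_dvd_prime_iff_eq hp hq).1 (hp.dvd_of_dvd_pow (hqn ▸ hu P hPu))
      have h1 : ((p : 𝓞 M)) ^ n ∈ P.1 := by
        rw [← Nat.cast_pow, ← hqn]
        exact Ideal.absNorm_mem _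
      exact Ideal.dvd_iff_le.2 ((Ideal.span_singleton_le_iff_mem _).2 (P.2.isPrime.mem_of_pow_mem n h1))
  have h2 := map_dvd Ideal.absNorm hdvd
  rw [Ideal.absNorm_span_natCast, map_prod, Finset.prod_map] at h2
  have h3 : p ^ u.card ∣ p ^ Module.finrank ℤ (𝓞 M) := by
    refine dvd_trans ?_ h2
    rw [← Finset.prod_const]
    exact Finset.prod_dvd_prod_of_dvd _ _ hu
  exact (Nat.pow_dvd_pow_iff_le_right hp.one_lt).1 h3

theorem exists_factor (I : Ideal (𝓞 M)) (hI : I ≠ 0) :
    ∃ α : Primes M →₀ ℕ, α.prod (fun P m => P.1 ^ m) = I := by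
  classical
  induction I using UniqueFactorizationMonoid.induction_on_prime with
  | h₁ => exact absurd rfl hI
  | h₂ x hx => exact ⟨0, by rw [Finsupp.prod_zero_index, isUnit_iff_eq_one.1 hx]⟩
  | h₃ J P hJ hP ih =>
      obtain ⟨α, hα⟩ := ih hJ
      have hPm : P.IsMaximal := (Ideal.isPrime_of_prime hP).isMaximal hP.ne_zero
      refine ⟨Finsupp.single ⟨P, hPm⟩ 1 + α, ?_⟩
      rw [Finsupp.prod_add_index' (fun _ => pow_zero _) (fun _ _ _ => pow_add _ _ _), hα,
        Finsupp.prod_single_index (h := fun (Q : Primes M) m => Q.1 ^ m) (pow_zero _), pow_one]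

theorem not_summable_absNorm {σ : ℝ} (hσ0 : 0 < σ) (hσ : σ < 1) :
    ¬ Summable fun P : Primes M => (Ideal.absNorm P.1 : ℝ) ^ (-σ) := by
  classical
  intro hsum
  set z : Primes M → ℝ := fun P => (Ideal.absNorm P.1 : ℝ) ^ (-σ)
  have h2 : ∀ P : Primes M, 2 ≤ Ideal.absNorm P.1 := fun P => by
    have := P.2
    obtain ⟨q, n, hn, -, hq, hqn⟩ := Ideal.exists_prime_and_absNorm_eq_pow P.1
    rw [hqn]
    exact hq.two_le.trans (Nat.le_self_pow hn.ne' _)
  have hz : ∀ P, z P ≤ (2 : ℝ) ^ (-σ) := fun P =>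
    Real.rpow_le_rpow_of_nonpos two_pos (by exact_mod_cast h2 P) (by linarith)
  have hz0 : ∀ P, 0 ≤ z P := fun P => Real.rpow_nonneg (Nat.cast_nonneg _) _
  have hmon : Summable (ZetaLib.mon z) :=
    ZetaLib.summable_mon z _ (Real.rpow_lt_one_of_one_lt_of_neg one_lt_two (by linarith)) hz0 hz hsum
  have hmon0 : ∀ α, 0 ≤ ZetaLib.mon z α := fun α => Finset.prod_nonneg fun i _ => pow_nonneg (hz0 i) _
  choose fac hfac using fun I : {I : Ideal (𝓞 M) // I ≠ 0} => exists_factor I.1 I.2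
  have hinj : Function.Injective fac := fun I J h => Subtype.ext (by rw [← hfac I, ← hfac J, h])
  have hval : ∀ I, ZetaLib.mon z (fac I) = (Ideal.absNorm I.1 : ℝ) ^ (-σ) := fun I => by
    conv_rhs => rw [← hfac I]
    rw [Finsupp.prod, map_prod, Nat.cast_prod, ← Real.finsetProd_rpow _ _ fun _ _ => Nat.cast_nonneg _,
      ZetaLib.mon, Finsupp.prod]
    refine Finset.prod_congr rfl fun P _ => ?_
    show z P ^ _ = _
    rw [map_pow, Nat.cast_pow, ← Real.rpow_natCast_mul (Nat.cast_nonneg _),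
      mul_comm, Real.rpow_mul (Nat.cast_nonneg _), Real.rpow_natCast]
  set T := ∑' α, ZetaLib.mon z α
  have hcount : ∀ X : ℝ, 1 ≤ X →
      (Nat.card {I : Ideal (𝓞 M) // Ideal.absNorm I ≤ X} : ℝ) ≤ 1 + T * X ^ σ := by
    intro X hX
    haveI : Finite {I : Ideal (𝓞 M) // (Ideal.absNorm I : ℝ) ≤ X} := by
      simp_rw [← Nat.le_floor_iff (zero_le_one.trans hX)]
      exact (Ideal.finite_setOfPred_absNorm_le ⌊X⌋₊).to_subtype
    haveI := Fintype.ofFinite {I : Ideal (𝓞 M) // (Ideal.absNorm I : ℝ) ≤ X}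
    let s := (Finset.univ : Finset {I : Ideal (𝓞 M) // (Ideal.absNorm I : ℝ) ≤ X}).filter fun I => I.1 ≠ 0
    have hs : Nat.card {I : Ideal (𝓞 M) // (Ideal.absNorm I : ℝ) ≤ X} ≤ s.card + 1 := by
      rw [Nat.card_eq_fintype_card, ← Finset.card_univ,
        ← Finset.card_filter_add_card_filter_not (fun I => I.1 ≠ 0)]
      refine Nat.add_le_add_left (Finset.card_le_one.2 fun I hI J hJ => Subtype.ext ?_) _
      simp only [Finset.mem_filter, not_not] at hI hJ
      rw [hI.2, hJ.2]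
    have hsT : (s.card : ℝ) * X ^ (-σ) ≤ T := by
      have h4 : ∑ I ∈ s.subtype (fun I => I.1 ≠ 0), ZetaLib.mon z (fac ⟨I.1.1, I.2⟩) ≤ T := by
        rw [← Finset.sum_image (f := ZetaLib.mon z) (g := fun I : {I : {I : Ideal (𝓞 M) //
          (Ideal.absNorm I : ℝ) ≤ X} // I.1 ≠ 0} => fac ⟨I.1.1, I.2⟩)
          (fun I _ J _ h => Subtype.ext (Subtype.ext (congrArg (fun K => K.1) (hinj h))))]
        exact hmon.sum_le_tsum _ fun α _ => hmon0 α
      refine le_trans ?_ h4
      rw [show (s.card : ℝ) = ((s.subtype fun I => I.1 ≠ 0).card : ℝ) by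
        rw [Finset.card_subtype, Finset.filter_filter]; simp only [and_self]; rfl]
      rw [← nsmul_eq_mul]
      refine Finset.card_nsmul_le_sum _ _ _ fun I _ => ?_
      rw [hval]
      exact Real.rpow_le_rpow_of_nonpos (Nat.cast_pos.2 (Nat.pos_of_ne_zero fun h =>
        I.2 (Ideal.absNorm_eq_zero_iff.1 h))) I.1.2 (by linarith)
    have hXσ : (0 : ℝ) < X ^ σ := Real.rpow_pos_of_pos (by linarith) _
    rw [Real.rpow_neg (by linarith), ← div_eq_mul_inv, div_le_iff₀ hXσ] at hsT
    have hs' : (Nat.card {I : Ideal (𝓞 M) // (Ideal.absNorm I : ℝ) ≤ X} : ℝ) ≤ (s.card : ℝ) + 1 := by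
      exact_mod_cast hs
    linarith
  have hlim : Tendsto (fun X : ℝ => (1 + T * X ^ σ) / X) atTop (𝓝 0) := by
    have h1 : Tendsto (fun X : ℝ => X⁻¹ + T * X ^ (-(1 - σ))) atTop (𝓝 (0 + T * 0)) :=
      tendsto_inv_atTop_zero.add ((tendsto_rpow_neg_atTop (by linarith)).const_mul T)
    rw [mul_zero, add_zero] at h1
    refine h1.congr' ?_
    filter_upwards [eventually_gt_atTop 0] with X hX
    rw [add_div, one_div, mul_div_assoc, neg_sub, Real.rpow_sub_one hX.ne']
  have hle := le_of_tendsto_of_tendsto (NumberField.Ideal.tendsto_norm_le_div_atTop M) hlim (by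
    filter_upwards [eventually_ge_atTop 1] with X hX
    exact div_le_div_of_nonneg_right (hcount X hX) (by linarith))
  refine absurd hle (not_le.2 ?_)
  have := NumberField.Units.regulator_pos M
  have : (0 : ℝ) < classNumber M := Nat.cast_pos.2 Fintype.card_pos
  have : (0 : ℝ) < Real.sqrt |(discr M : ℝ)| :=
    Real.sqrt_pos.2 (abs_pos.2 (Int.cast_ne_zero.2 (discr_ne_zero M)))
  have : (0 : ℝ) < NumberField.Units.torsionOrder M :=
    Nat.cast_pos.2 (NumberField.Units.torsionOrder_pos M)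
  positivity

/-- **Divergence over the primes with a degree one prime above them.** -/
theorem not_summable_splitPrimes (a : 𝓞 M) (ha : a ≠ 0) {σ : ℝ} (hσ0 : 1 / 2 < σ) (hσ : σ < 1) :
    ¬ Summable ((splitPrimes M a).indicator fun p : ℕ => (p : ℝ) ^ (-σ)) := by
  classical
  intro hsum
  let g : ℕ → ℝ := fun p => (splitPrimes M a).indicator (fun p : ℕ => (p : ℝ) ^ (-σ)) p + (p : ℝ) ^ (-(2 * σ))
  have hg : Summable g := hsum.add (Real.summable_nat_rpow.2 (by linarith))
  have hg0 : ∀ p, 0 ≤ g p := fun p =>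
    add_nonneg (Set.indicator_nonneg (fun _ _ => Real.rpow_nonneg (Nat.cast_nonneg _) _) _)
      (Real.rpow_nonneg (Nat.cast_nonneg _) _)
  set d := Module.finrank ℤ (𝓞 M)
  have hbad : {P : Primes M | a ∈ P.1}.Finite := by
    refine ((Ideal.finite_setOfPred_absNorm_le (Ideal.absNorm (Ideal.span {a}))).preimage
      Subtype.val_injective.injOn).subset fun P hP => ?_
    refine Nat.le_of_dvd (Nat.pos_of_ne_zero ?_) (Ideal.absNorm_dvd_absNorm_of_le
      ((Ideal.span_singleton_le_iff_mem _).2 hP))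
    rw [Ne, Ideal.absNorm_eq_zero_iff, Ideal.span_singleton_eq_bot]
    exact ha
  refine not_summable_absNorm (M := M) (by linarith) hσ (summable_of_sum_le
    (c := hbad.toFinset.card + d * ∑' p, g p) (fun P => Real.rpow_nonneg (Nat.cast_nonneg _) _) fun u => ?_)
  rw [← Finset.sum_filter_add_sum_filter_not u (fun P => a ∈ P.1)]
  refine add_le_add ?_ ?_
  · refine (Finset.sum_le_card_nsmul _ _ 1 fun P _ => ?_).trans ?_
    · have := P.2
      obtain ⟨q, n, hn, -, hq, hqn⟩ := Ideal.exists_prime_and_absNorm_eq_pow P.1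
      refine Real.rpow_le_one_of_one_le_of_nonpos ?_ (by linarith)
      rw [hqn]
      exact_mod_cast Nat.one_le_pow _ _ hq.pos
    · rw [nsmul_eq_mul, mul_one, Nat.cast_le]
      exact Finset.card_le_card fun P hP => hbad.mem_toFinset.2 (Finset.mem_filter.1 hP).2
  set u' := u.filter fun P => ¬ a ∈ P.1
  choose q n hn _ hq hqn using fun P : Primes M =>
    have := P.2
    Ideal.exists_prime_and_absNorm_eq_pow P.1
  have hterm : ∀ P ∈ u', (Ideal.absNorm P.1 : ℝ) ^ (-σ) ≤ g (q P) := by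
    intro P hP
    have hq1 : (1 : ℝ) ≤ q P := by exact_mod_cast (hq P).one_le
    rcases eq_or_lt_of_le (show 1 ≤ n P from hn P) with h1 | h1
    · refine le_trans ?_ (le_add_of_nonneg_right (Real.rpow_nonneg (Nat.cast_nonneg _) _))
      rw [Set.indicator_of_mem, hqn, ← h1, pow_one]
      refine ⟨hq P, ?_⟩
      haveI := P.2
      haveI : Fact (q P).Prime := ⟨hq P⟩
      have hc : Nat.card (𝓞 M ⧸ P.1) = q P := by
        rw [← Submodule.cardQuot_apply, ← Ideal.absNorm_apply, hqn, ← h1, pow_one]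
      haveI : Finite (𝓞 M ⧸ P.1) := Nat.finite_of_card_ne_zero (by rw [hc]; exact (hq P).ne_zero)
      haveI := Fintype.ofFinite (𝓞 M ⧸ P.1)
      refine ⟨((ZMod.ringEquivOfPrime _ (hq P)
        (by rw [← Nat.card_eq_fintype_card, hc])).symm.toRingHom).comp (Ideal.Quotient.mk P.1), ?_⟩
      rw [RingHom.comp_apply, RingEquiv.toRingHom_eq_coe, RingHom.coe_coe, Ne, map_eq_zero_iff _ (RingEquiv.injective _),
        Ideal.Quotient.eq_zero_iff_mem]
      exact (Finset.mem_filter.1 hP).2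
    · refine le_trans ?_ (le_add_of_nonneg_left
        (Set.indicator_nonneg (fun _ _ => Real.rpow_nonneg (Nat.cast_nonneg _) _) _))
      rw [hqn, Nat.cast_pow, ← Real.rpow_natCast_mul (Nat.cast_nonneg _)]
      refine Real.rpow_le_rpow_of_exponent_le hq1 ?_
      have : (2 : ℝ) ≤ n P := by exact_mod_cast (Nat.succ_le_iff.2 h1)
      nlinarith
  refine (Finset.sum_le_sum hterm).trans ?_
  rw [← Finset.sum_fiberwise_of_maps_to (g := q) (t := u'.image q) fun P hP => Finset.mem_image_of_mem q hP]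
  refine le_trans (Finset.sum_le_sum fun p hp => ?_) (le_trans (le_of_eq (Finset.mul_sum _ g _).symm)
    (mul_le_mul_of_nonneg_left (hg.sum_le_tsum _ fun p _ => hg0 p) (Nat.cast_nonneg _)))
  refine (Finset.sum_le_card_nsmul _ _ (g p) fun P hP => (Finset.mem_filter.1 hP).2 ▸ le_rfl).trans ?_
  rw [nsmul_eq_mul]
  refine mul_le_mul_of_nonneg_right (Nat.cast_le.2 ?_) (hg0 p)
  obtain ⟨P₀, -, rfl⟩ := Finset.mem_image.1 hp
  exact card_primesOver_le _ (hq P₀) _ fun P hP => by
    rw [hqn P, (Finset.mem_filter.1 hP).2]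
    exact dvd_pow_self _ (hn P).ne'

end Groth.Agent.AbscissaLB75
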