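import Groth.Agent.AbscissaLB75.Points
import Groth.Agent.AbscissaLB75.Primes
import Groth.Agent.ZetaLib.SchemeCount
import Mathlib.FieldTheory.Finite.Extension
import Mathlib.Algebra.Field.ULift

/-!
For a finitely generated domain `A` of dimension at least `r` the sum of `#(A/m) ^ (-σ)` over the
maximal ideals diverges for `σ < r`.
-/

noncomputable section

universe u

namespace Groth.Agent.AbscissaLB75

open Filter NumberField
open scoped Topology

variable (A : Type u) [CommRing A] [IsDomain A] [Algebra.FiniteType ℤ A]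

/-- The size of the residue field at a maximal ideal. -/
abbrev resCard (m : MaximalSpectrum A) : ℕ := Nat.card (A ⧸ m.1)

/-- The prime ring. -/
abbrev primeRing : Subring A := (Int.castRingHom A).range

theorem exists_intCast_eq (x : primeRing A) : ∃ z : ℤ, (z : primeRing A) = x := by
  obtain ⟨z, hz⟩ := x.2
  exact ⟨z, Subtype.ext hz⟩

theorem ringHom_ext_primeRing {B : Type*} [Ring B] (f g : primeRing A →+* B) : f = g :=
  RingHom.ext fun x => by
    obtain ⟨z, rfl⟩ := exists_intCast_eq A x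
    rw [map_intCast, map_intCast]

variable {A} in
theorem finiteType_intCast {R B : Type u} [CommRing R] [CommRing B] [Finite R] (φ : R →+* B)
    (hφ : φ.FiniteType) : (Int.castRingHom B).FiniteType := by
  have h : (Int.castRingHom R).FiniteType := (RingHom.Finite.finiteType
    (RingHom.finite_algebraMap.2 (inferInstanceAs (Module.Finite ℤ R)) : (algebraMap ℤ R).Finite))
  rw [RingHom.ext_int (Int.castRingHom B) (φ.comp (Int.castRingHom R))]
  exact hφ.comp h

theorem not_summable_charP (p : ℕ) [Fact p.Prime] [CharP A p] (r : ℕ) (hr : (r : WithBot ℕ∞) ≤ ringKrullDim A)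
    {σ : ℝ} (hσ0 : 0 ≤ σ) (hσ : σ < r) : ¬ Summable fun m : MaximalSpectrum A => (resCard A m : ℝ) ^ (-σ) := by
  classical
  intro hsum
  let R := primeRing A
  haveI : IsScalarTower ℤ R A := IsScalarTower.of_algebraMap_eq' (RingHom.ext_int _ _)
  haveI : Algebra.FiniteType R A := Algebra.FiniteType.of_restrictScalars_finiteType ℤ R A
  haveI : Finite R := Finite.of_surjective (fun z : ZMod p => (⟨ZMod.castHom dvd_rfl A z, by
      obtain ⟨z, rfl⟩ := ZMod.intCast_surjective z
      exact ⟨z, (map_intCast _ z).symm⟩⟩ : R)) (fun x => by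
    obtain ⟨z, rfl⟩ := exists_intCast_eq A x
    exact ⟨z, Subtype.ext (map_intCast _ z)⟩)
  haveI : Finite (FractionRing R) := by
    refine Finite.of_surjective (fun q : R × nonZeroDivisors R => IsLocalization.mk' (FractionRing R) q.1 q.2) ?_
    exact fun x => let ⟨a, b, h⟩ := IsLocalization.exists_mk'_eq (nonZeroDivisors R) x; ⟨(a, b), h⟩
  obtain ⟨n, C, T, hT, hC, hdim, hlow⟩ := exists_lower (R := R) (FractionRing R) A
  have hn : r ≤ n := by
    have := hr.trans (hdim 0 (by rw [ringKrullDim_eq_zero_of_isField (Finite.isField_of_domain R)]; rfl))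
    simpa using this
  haveI := hT
  -- a point over some finite field
  obtain ⟨m₀, hm₀⟩ := Ideal.exists_maximal T
  letI := Ideal.Quotient.field m₀
  haveI : Finite (T ⧸ m₀) := @ZetaLib.finite_of_finiteType_int (T ⧸ m₀) _
    ((@RingHom.finiteType_algebraMap ℤ (T ⧸ m₀) _ _ (Ring.toIntAlgebra _)).1 (finiteType_intCast ((Ideal.Quotient.mk m₀).comp (algebraMap R ↥T))
      ((RingHom.FiniteType.of_surjective _ Ideal.Quotient.mk_surjective).comp
        (RingHom.finiteType_algebraMap.2 hT))))
  haveI hp1 : CharP (T ⧸ m₀) p := (CharP.charP_iff_prime_eq_zero Fact.out).2 (by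
    rw [← map_natCast (algebraMap R (T ⧸ m₀)), show ((p : ℕ) : R) = 0 from Subtype.ext (by
      rw [SubringClass.coe_natCast]; exact CharP.cast_eq_zero A p), map_zero])
  letI : Algebra (ZMod p) (T ⧸ m₀) := ZMod.algebra _ p
  haveI : Module.Finite (ZMod p) (T ⧸ m₀) := Module.Finite.of_finite
  set d := Module.finrank (ZMod p) (T ⧸ m₀)
  have hk : Nat.card (T ⧸ m₀) = p ^ d := by rw [Module.natCard_eq_pow_finrank (K := ZMod p), Nat.card_zmod]
  set q := Nat.card (T ⧸ m₀)
  have hq : (1 : ℝ) < q := by exact_mod_cast Finite.one_lt_card (α := T ⧸ m₀)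
  set S := ∑' m : MaximalSpectrum A, (resCard A m : ℝ) ^ (-σ)
  have hS0 : 0 ≤ S := tsum_nonneg fun m => Real.rpow_nonneg (Nat.cast_nonneg _) _
  set c : ℝ := (q : ℝ) ^ (-((n : ℝ) - σ))
  have hnσ : 0 < (n : ℝ) - σ := sub_pos.2 (hσ.trans_le (by exact_mod_cast hn))
  have hc1 : c < 1 := Real.rpow_lt_one_of_one_lt_of_neg hq (by linarith)
  have hkey : ∀ j : ℕ, C ≤ j → 1 ≤ (C * d * S) * ((j : ℝ) * c ^ j) := by
    intro j hj
    haveI : NeZero j := ⟨by omega⟩
    let F := ULift.{u} (FiniteField.Extension (T ⧸ m₀) p j)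
    letI : Algebra R F := ((algebraMap (T ⧸ m₀) F).comp (algebraMap R (T ⧸ m₀))).toAlgebra
    haveI : IsScalarTower R (T ⧸ m₀) F := IsScalarTower.of_algebraMap_eq' rfl
    haveI : CharP F p := charP_of_injective_ringHom (algebraMap (T ⧸ m₀) F).injective p
    have hF : Nat.card F = q ^ j := by
      rw [Nat.card_congr Equiv.ulift, FiniteField.natCard_extension]
    haveI : Finite F := Nat.finite_of_card_ne_zero (by rw [hF]; exact pow_ne_zero _ Nat.card_pos.ne')
    have hCQ : C ≤ Nat.card F := by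
      rw [hF]
      exact hj.trans (j.lt_pow_self (Finite.one_lt_card (α := T ⧸ m₀))).le
    have h1 := hlow F ((IsScalarTower.toAlgHom R (T ⧸ m₀) F).comp (Ideal.Quotient.mkₐ R m₀)) hCQ
    obtain ⟨s, h2, h3⟩ := exists_kernels A p F (d * j) (by rw [hF, hk, pow_mul])
    have h4 : (s.card : ℝ) * (Nat.card F : ℝ) ^ (-σ) ≤ S := by
      rw [← nsmul_eq_mul]
      refine (Finset.card_nsmul_le_sum _ _ _ fun m hm => ?_).trans
        (hsum.sum_le_tsum s fun m _ => Real.rpow_nonneg (Nat.cast_nonneg _) _)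
      have h5 := h3 m hm
      exact Real.rpow_le_rpow_of_nonpos
        (Nat.cast_pos.2 ((Fact.out : p.Prime).pos.trans_le h5.1)) (Nat.cast_le.2 h5.2) (by linarith)
    have h6 : (Nat.card F : ℝ) ^ n ≤ C * (d * j * s.card) := by
      exact_mod_cast h1.trans (Nat.mul_le_mul_left C h2)
    have hQ0 : (0 : ℝ) < Nat.card F := Nat.cast_pos.2 Nat.card_pos
    have h7 : (Nat.card F : ℝ) ^ ((n : ℝ) - σ) ≤ C * d * S * j := by
      rw [sub_eq_add_neg, Real.rpow_add hQ0, Real.rpow_natCast]
      refine (mul_le_mul_of_nonneg_right h6 (Real.rpow_nonneg hQ0.le _)).trans ?_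
      calc (C : ℝ) * (d * j * s.card) * (Nat.card F : ℝ) ^ (-σ)
          = (C : ℝ) * d * j * ((s.card : ℝ) * (Nat.card F : ℝ) ^ (-σ)) := by ring
        _ ≤ (C : ℝ) * d * j * S := mul_le_mul_of_nonneg_left h4 (by positivity)
        _ = _ := by ring
    have h8 : c ^ j = ((Nat.card F : ℝ) ^ ((n : ℝ) - σ))⁻¹ := by
      rw [hF, Nat.cast_pow, ← Real.rpow_natCast_mul (Nat.cast_nonneg _), mul_comm,
        Real.rpow_mul (Nat.cast_nonneg _), Real.rpow_natCast, ← inv_pow, ← Real.rpow_neg (Nat.cast_nonneg _)]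
    rw [h8, ← mul_assoc, ← div_eq_mul_inv, le_div_iff₀ (Real.rpow_pos_of_pos hQ0 _), one_mul]
    exact h7
  have hlim : Tendsto (fun j : ℕ => (C * d * S) * ((j : ℝ) * c ^ j)) atTop (𝓝 ((C * d * S) * 0)) :=
    (tendsto_self_mul_const_pow_of_lt_one (Real.rpow_nonneg (Nat.cast_nonneg _) _) hc1).const_mul _
  have := le_of_tendsto_of_tendsto tendsto_const_nhds hlim ((eventually_ge_atTop C).mono hkey)
  simp at this
  linarith

open scoped TensorProduct in
set_option synthInstance.maxHeartbeats 100000 in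
/-- A finitely generated ring with a point of characteristic zero has a point with values in a
localization of the integers of a number field. -/
theorem exists_hom_away (T : Type u) [CommRing T] (hT : (Int.castRingHom T).FiniteType) {K : Type u}
    [Field K] [CharZero K] (g : T →+* K) : ∃ (M : Type u) (_ : Field M) (_ : NumberField M) (a : 𝓞 M),
      a ≠ 0 ∧ Nonempty (T →+* Localization.Away a) := by
  classical
  haveI : Algebra.FiniteType ℤ T := RingHom.finiteType_algebraMap.1 hT
  haveI : Nontrivial (ℚ ⊗[ℤ] T) :=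
    (Algebra.TensorProduct.lift (algebraMap ℚ K).toIntAlgHom g.toIntAlgHom fun _ _ => Commute.all _ _).toRingHom.domain_nontrivial
  obtain ⟨q₀, hq₀⟩ := Ideal.exists_maximal (ℚ ⊗[ℤ] T)
  letI : Field ((ℚ ⊗[ℤ] T) ⧸ q₀) := Ideal.Quotient.field q₀
  haveI : Algebra.FiniteType ℚ ((ℚ ⊗[ℤ] T) ⧸ q₀) :=
    Algebra.FiniteType.of_surjective (Ideal.Quotient.mkₐ ℚ q₀) Ideal.Quotient.mk_surjective
  haveI : Module.Finite ℚ ((ℚ ⊗[ℤ] T) ⧸ q₀) := finite_of_finite_type_of_isJacobsonRing ℚ _
  haveI hc : CharZero ((ℚ ⊗[ℤ] T) ⧸ q₀) :=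
    charZero_of_injective_ringHom (algebraMap ℚ ((ℚ ⊗[ℤ] T) ⧸ q₀)).injective
  haveI hM : NumberField ((ℚ ⊗[ℤ] T) ⧸ q₀) :=
    { to_charZero := hc
      to_finiteDimensional := by
        convert! (inferInstance : Module.Finite ℚ ((ℚ ⊗[ℤ] T) ⧸ q₀))
        exact Subsingleton.elim _ _ }
  let M := (ℚ ⊗[ℤ] T) ⧸ q₀
  let ψM : T →+* M := (Ideal.Quotient.mk q₀).comp
    (Algebra.TensorProduct.includeRight : T →ₐ[ℤ] ℚ ⊗[ℤ] T).toRingHom
  obtain ⟨t, ht⟩ := Algebra.FiniteType.out (R := ℤ) (A := T)
  obtain ⟨⟨a, ha⟩, hint⟩ := IsLocalization.exist_integer_multiples (nonZeroDivisors (𝓞 M)) t ψM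
  have ha0 : a ≠ 0 := nonZeroDivisors.ne_zero ha
  let L := Localization.Away a
  have hau : IsUnit (algebraMap (𝓞 M) M a) :=
    isUnit_iff_ne_zero.2 ((map_ne_zero_iff _ (IsFractionRing.injective (𝓞 M) M)).2 ha0)
  let jL : L →+* M := IsLocalization.Away.lift a hau
  have hjL : Function.Injective jL := by
    rw [injective_iff_map_eq_zero]
    intro z hz
    obtain ⟨⟨z₁, z₂⟩, hz'⟩ := IsLocalization.surj (Submonoid.powers a) z
    have h6 := congrArg jL hz'
    rw [map_mul, hz, zero_mul, IsLocalization.Away.lift_eq] at h6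
    have h7 : z₁ = 0 := IsFractionRing.injective (𝓞 M) M (h6.symm.trans (map_zero _).symm)
    rw [h7, map_zero] at hz'
    exact (IsLocalization.map_units L z₂).mul_left_eq_zero.1 hz'
  have hrange : ∀ x : T, ψM x ∈ jL.range := fun x => by
    refine Algebra.adjoin_induction (p := fun x _ => ψM x ∈ jL.range) (fun y hy => ?_) (fun z => ?_)
      (fun y z _ _ hy hz => by rw [map_add]; exact add_mem hy hz)
      (fun y z _ _ hy hz => by rw [map_mul]; exact mul_mem hy hz) (ht.ge (Algebra.mem_top (x := x)))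
    · obtain ⟨w, hw⟩ := hint y hy
      refine ⟨algebraMap (𝓞 M) L w * IsLocalization.Away.invSelf (S := L) a, ?_⟩
      have h1 : algebraMap (𝓞 M) M a * jL (IsLocalization.Away.invSelf (S := L) a) = 1 := by
        rw [← IsLocalization.Away.lift_eq (S := L) a hau a, ← map_mul,
          IsLocalization.Away.mul_invSelf, map_one]
      rw [map_mul, IsLocalization.Away.lift_eq, hw, Algebra.smul_def,
        mul_comm (algebraMap (𝓞 M) M a), mul_assoc, h1, mul_one]
    · rw [eq_intCast, map_intCast]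
      exact intCast_mem _ _
  let re : L ≃+* jL.range :=
    RingEquiv.ofBijective jL.rangeRestrict
      ⟨fun x y hxy => hjL (congrArg Subtype.val hxy), jL.rangeRestrict_surjective⟩
  exact ⟨M, inferInstance, hM, a, ha0, ⟨re.symm.toRingHom.comp (ψM.codRestrict jL.range hrange)⟩⟩

theorem not_summable_charZero [CharZero A] (r : ℕ) (hr : (r : WithBot ℕ∞) ≤ ringKrullDim A)
    {σ : ℝ} (hσ0 : 0 ≤ σ) (hσ : σ < r) : ¬ Summable fun m : MaximalSpectrum A => (resCard A m : ℝ) ^ (-σ) := by
  classical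
  intro hsum
  let R := primeRing A
  haveI : IsScalarTower ℤ R A := IsScalarTower.of_algebraMap_eq' (RingHom.ext_int _ _)
  haveI : Algebra.FiniteType R A := Algebra.FiniteType.of_restrictScalars_finiteType ℤ R A
  let eR : ℤ ≃+* R := RingEquiv.ofBijective (Int.castRingHom A).rangeRestrict
    ⟨fun x y h => Int.cast_injective (congrArg Subtype.val h), (Int.castRingHom A).rangeRestrict_surjective⟩
  haveI : IsNoetherianRing R := isNoetherianRing_of_ringEquiv ℤ eR
  haveI : CharZero R := charZero_of_injective_ringHom eR.injective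
  haveI : CharZero (FractionRing R) :=
    charZero_of_injective_ringHom (IsFractionRing.injective R (FractionRing R))
  obtain ⟨n, C, T, hT, hC, hdim, hlow⟩ := exists_lower (R := R) (FractionRing R) A
  have hn : r ≤ 1 + n := by
    have := hr.trans (hdim 1 (by
      rw [← ringKrullDim_eq_of_ringEquiv eR]
      exact (Ring.krullDimLE_iff (n := 1)).1 inferInstance))
    exact_mod_cast this
  -- a point over a number field
  haveI : Algebra.FiniteType ℤ R :=
    Algebra.FiniteType.of_surjective eR.toRingHom.toIntAlgHom eR.surjective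
  have hTft : (Int.castRingHom ↥T).FiniteType := by
    rw [RingHom.ext_int (Int.castRingHom ↥T) ((algebraMap R ↥T).comp (Int.castRingHom R))]
    exact (RingHom.finiteType_algebraMap.2 hT).comp
      (RingHom.FiniteType.of_surjective _ fun x => exists_intCast_eq A x)
  haveI : CharZero (FractionRing A) :=
    charZero_of_injective_ringHom (IsFractionRing.injective A (FractionRing A))
  obtain ⟨M, _, _, a, ha0, ⟨ψL⟩⟩ := exists_hom_away ↥T hTft T.val.toRingHom
  let L := Localization.Away a
  -- compare the sums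
  set S := ∑' m : MaximalSpectrum A, (resCard A m : ℝ) ^ (-σ)
  let fibre : ℕ → ℝ := fun p => ∑' m : {m : MaximalSpectrum A // resCard A m = p}, (resCard A m.1 : ℝ) ^ (-σ)
  have hfibre : Summable fibre :=
    ((Equiv.sigmaFiberEquiv (resCard A)).summable_iff.2 hsum).sigma
  set σ' := max (σ - n) (3 / 4 : ℝ)
  have hσ'1 : σ' < 1 := max_lt (by
    have : (r : ℝ) ≤ 1 + n := by exact_mod_cast hn
    linarith) (by norm_num)
  refine not_summable_splitPrimes (M := M) a ha0 (lt_of_lt_of_le (by norm_num) (le_max_right _ _)) hσ'1 ?_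
  refine Summable.of_norm_bounded_eventually_nat (g := fun p => (C : ℝ) * fibre p) (hfibre.mul_left _) ?_
  filter_upwards [eventually_ge_atTop C] with p hpC
  rw [Real.norm_of_nonneg (Set.indicator_nonneg (fun _ _ => Real.rpow_nonneg (Nat.cast_nonneg _) _) _)]
  refine Set.indicator_apply_le' (fun hp => ?_) fun _ => mul_nonneg (Nat.cast_nonneg _)
    (tsum_nonneg fun _ => Real.rpow_nonneg (Nat.cast_nonneg _) _)
  obtain ⟨hp, φ, hφ⟩ := hp
  haveI : Fact p.Prime := ⟨hp⟩
  let F := ULift.{u} (ZMod p)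
  let φF : 𝓞 M →+* F := (ULift.ringEquiv (R := ZMod p)).symm.toRingHom.comp φ
  have hφF : φF a ≠ 0 := fun h0 => hφ ((map_eq_zero_iff (ULift.ringEquiv (R := ZMod p)).symm (RingEquiv.injective _)).1 h0)
  letI : Algebra R F := ((Int.castRingHom F).comp eR.symm.toRingHom).toAlgebra
  let ψ : T →ₐ[R] F :=
    { (IsLocalization.Away.lift (S := L) a (g := φF) (isUnit_iff_ne_zero.2 hφF)).comp ψL with
      commutes' := fun z => RingHom.congr_fun (ringHom_ext_primeRing A
        (((IsLocalization.Away.lift (S := L) a (g := φF) (isUnit_iff_ne_zero.2 hφF)).comp ψL).comp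
          (algebraMap R T)) (algebraMap R F)) z }
  haveI : Finite F := Finite.of_equiv _ Equiv.ulift.symm
  haveI : CharP F p := charP_of_injective_ringHom (ULift.ringEquiv (R := ZMod p)).symm.toRingHom.injective p
  have hF : Nat.card F = p := by rw [Nat.card_congr Equiv.ulift, Nat.card_zmod]
  have h1 := hlow F ψ (by rw [hF]; exact hpC)
  obtain ⟨s, h2, h3⟩ := exists_kernels A p F 1 (by rw [hF, pow_one])
  rw [one_mul] at h2
  rw [hF] at h1 h3
  have h6 : (p : ℝ) ^ n ≤ C * (s.card : ℝ) := by exact_mod_cast h1.trans (Nat.mul_le_mul_left C h2)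
  have hp0 : (0 : ℝ) < p := Nat.cast_pos.2 hp.pos
  calc (p : ℝ) ^ (-σ') ≤ (p : ℝ) ^ ((n : ℝ) + -σ) :=
        Real.rpow_le_rpow_of_exponent_le (by exact_mod_cast hp.one_le)
          (by linarith [le_max_left (σ - n) (3 / 4 : ℝ)])
    _ = (p : ℝ) ^ n * (p : ℝ) ^ (-σ) := by rw [Real.rpow_add hp0, Real.rpow_natCast]
    _ ≤ (C : ℝ) * (s.card : ℝ) * (p : ℝ) ^ (-σ) := mul_le_mul_of_nonneg_right h6 (Real.rpow_nonneg hp0.le _)
    _ ≤ (C : ℝ) * fibre p := by
      rw [mul_assoc]
      refine mul_le_mul_of_nonneg_left ?_ (Nat.cast_nonneg _)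
      have hs : ∀ m ∈ s, resCard A m = p := fun m hm => le_antisymm (h3 m hm).2 (h3 m hm).1
      refine le_trans ?_ (((hsum.subtype {m | resCard A m = p})).sum_le_tsum
        (s.subtype fun m => resCard A m = p) fun _ _ => Real.rpow_nonneg (Nat.cast_nonneg _) _)
      rw [← nsmul_eq_mul]
      refine le_of_eq_of_le ?_ (Finset.card_nsmul_le_sum _ _ ((p : ℝ) ^ (-σ)) fun m _ =>
        le_of_eq (by rw [m.2]))
      rw [Finset.card_subtype, Finset.filter_true_of_mem hs]

/-- **Divergence over the closed points of a finitely generated domain.** -/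
theorem not_summable_resCard (r : ℕ) (hr : (r : WithBot ℕ∞) ≤ ringKrullDim A)
    {σ : ℝ} (hσ0 : 0 ≤ σ) (hσ : σ < r) : ¬ Summable fun m : MaximalSpectrum A => (resCard A m : ℝ) ^ (-σ) := by
  obtain ⟨p, hp⟩ := CharP.exists A
  rcases CharP.char_is_prime_or_zero A p with hprime | rfl
  · haveI : Fact p.Prime := ⟨hprime⟩
    exact not_summable_charP A p r hr hσ0 hσ
  · haveI : CharZero A := CharP.charP_to_charZero A
    exact not_summable_charZero A r hr hσ0 hσ

end Groth.Agent.AbscissaLB75
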