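import Groth.Agent.DimFormula.Trdeg
import Mathlib.FieldTheory.SeparablyGenerated
import Mathlib.FieldTheory.PrimitiveElement
import Mathlib.RingTheory.Localization.Integral
import Mathlib.Algebra.MvPolynomial.PDeriv
import Mathlib.RingTheory.AlgebraicIndependent.Transcendental

/-!
A finitely generated domain over a base ring with perfect fraction field is birational to a
hypersurface, smooth at the generic point, compatibly with points in any field.
-/

noncomputable section

universe u

namespace Groth.Agent.AbscissaLB75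

open Polynomial
open scoped IntermediateField

variable {R : Type u} [CommRing R] {σ : Type} {F : Type*} [CommRing F] [Algebra R F]

/-- Polynomials in the last variable as polynomials in all variables. -/
def toMv : (MvPolynomial σ R)[X] →+* MvPolynomial (Option σ) R :=
  eval₂RingHom (MvPolynomial.rename some).toRingHom (MvPolynomial.X none)

/-- Evaluation at a point. -/
def evalPt (P : Option σ → F) : (MvPolynomial σ R)[X] →+* F :=
  eval₂RingHom (MvPolynomial.aeval (P ∘ some)).toRingHom (P none)

theorem aeval_toMv (P : Option σ → F) (q : (MvPolynomial σ R)[X]) :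
    MvPolynomial.aeval P (toMv q) = evalPt P q := by
  simp only [toMv, evalPt, coe_eval₂RingHom]
  rw [← AlgHom.coe_toRingHom (MvPolynomial.aeval P), hom_eval₂]
  congr 1
  · exact RingHom.ext fun a => MvPolynomial.aeval_rename some P a
  · simp

theorem pderiv_toMv (q : (MvPolynomial σ R)[X]) :
    MvPolynomial.pderiv none (toMv q) = toMv (derivative q) := by
  classical
  have hC : ∀ a : MvPolynomial σ R, MvPolynomial.pderiv none (MvPolynomial.rename some a) = 0 := fun a => by
    induction a using MvPolynomial.induction_on with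
    | C c => simp
    | add a b ha hb => simp [ha, hb]
    | mul_X a i ha => simp [ha, MvPolynomial.pderiv_mul, MvPolynomial.pderiv_X_of_ne]
  induction q using Polynomial.induction_on with
  | C a => simp [toMv, hC]
  | add p q hp hq => rw [map_add, map_add, hp, hq, derivative_add, map_add]
  | monomial n a _ =>
      have h1 : toMv (C a : (MvPolynomial σ R)[X]) = MvPolynomial.rename some a := eval₂_C _ _
      have h2 : toMv (X : (MvPolynomial σ R)[X]) = MvPolynomial.X none := eval₂_X _ _
      rw [derivative_C_mul, derivative_X_pow, Nat.add_sub_cancel, map_natCast C]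
      simp [h1, h2, hC, MvPolynomial.pderiv_mul, MvPolynomial.pderiv_pow]

theorem exists_hom_injective {K : Type u} [Field K] {A : Type u} [CommRing A] [Algebra R A] [Algebra A K]
    [Algebra R K] [IsScalarTower R A K] {gens : Finset A} (hgens : Algebra.adjoin R (gens : Set A) = ⊤)
    (P₀ : Option σ → K) (h₀ : (MvPolynomial σ R)[X]) (e₀ : MvPolynomial σ R)
    (he₀ : evalPt P₀ (C e₀) ≠ 0) (a : A) (haK : algebraMap A K a ≠ 0)
    (hint : ∀ o, ∃ y : A, algebraMap A K y = algebraMap A K a * P₀ o)
    (hden : ∀ x ∈ insert (algebraMap A K a)⁻¹ (algebraMap A K '' (gens : Set A)),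
      ∃ c, c ∣ e₀ ∧ ∃ q, evalPt (R := R) P₀ q = evalPt P₀ (C c) * x)
    (F : Type u) [Field F] [Algebra R F]
    (hkill : ∀ P : Option σ → F, evalPt P h₀ = 0 → evalPt P (C e₀) ≠ 0 →
      ∀ q ∈ RingHom.ker (evalPt (R := R) P₀), evalPt P q = 0) :
    ∃ Φ : {P : Option σ → F // MvPolynomial.aeval P (toMv h₀) = 0 ∧
      MvPolynomial.aeval P (toMv (C e₀)) ≠ 0} → (A →+* F), Function.Injective Φ := by
  classical
  set ev₀ := evalPt (R := R) P₀
  let S := (MvPolynomial σ R)[X] ⧸ RingHom.ker ev₀
  let jS : S →+* K := RingHom.kerLift ev₀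
  let eb : S := Ideal.Quotient.mk _ (C e₀)
  have hje : jS eb ≠ 0 := he₀
  let jL : Localization.Away eb →+* K := IsLocalization.Away.lift eb (isUnit_iff_ne_zero.2 hje)
  have hjLS : ∀ z : S, jL (algebraMap S _ z) = jS z := fun z => IsLocalization.Away.lift_eq _ _ z
  have hjL' : Function.Injective jL := by
    rw [injective_iff_map_eq_zero]
    intro z hz
    obtain ⟨⟨z₁, z₂⟩, hz'⟩ := IsLocalization.surj (Submonoid.powers eb) z
    have h6 := congrArg jL hz'
    rw [map_mul, hz, zero_mul, hjLS] at h6
    have h7 : z₁ = 0 := RingHom.kerLift_injective ev₀ (h6.symm.trans (map_zero _).symm)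
    rw [h7, map_zero] at hz'
    exact (IsLocalization.map_units (Localization.Away eb) z₂).mul_left_eq_zero.1 hz'
  have hrg : ∀ q, ev₀ q ∈ jL.range := fun q => ⟨algebraMap S _ (Ideal.Quotient.mk _ q), hjLS _⟩
  have hi : (jS eb)⁻¹ ∈ jL.range := by
    refine ⟨IsLocalization.Away.invSelf (S := Localization.Away eb) eb, eq_inv_of_mul_eq_one_left ?_⟩
    rw [← hjLS eb, ← map_mul, mul_comm, IsLocalization.Away.mul_invSelf, map_one]
  have hinv : ∀ x ∈ insert (algebraMap A K a)⁻¹ (algebraMap A K '' (gens : Set A)), x ∈ jL.range := by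
    intro x hx
    obtain ⟨c, ⟨r, hr⟩, q, hq⟩ := hden x hx
    have : x = ev₀ (q * C r) * (jS eb)⁻¹ := by
      rw [eq_mul_inv_iff_mul_eq₀ hje, map_mul, hq, show jS eb = ev₀ (C e₀) from rfl, hr, map_mul, map_mul]
      ring
    rw [this]
    exact mul_mem (hrg _) hi
  have hA : ∀ y : A, algebraMap A K y ∈ jL.range := fun y => by
    refine Algebra.adjoin_induction (p := fun y _ => algebraMap A K y ∈ jL.range)
      (fun x hx => hinv _ (Set.mem_insert_of_mem _ (Set.mem_image_of_mem _ hx))) (fun r => ?_)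
      (fun a b _ _ ha hb => by rw [map_add]; exact add_mem ha hb)
      (fun a b _ _ ha hb => by rw [map_mul]; exact mul_mem ha hb) (hgens.ge (Algebra.mem_top (x := y)))
    rw [← IsScalarTower.algebraMap_apply]
    have : ev₀ (C (MvPolynomial.C r)) = algebraMap R K r := by simp [ev₀, evalPt]
    exact this ▸ hrg _
  have hψ : ∀ P : {P : Option σ → F // MvPolynomial.aeval P (toMv h₀) = 0 ∧
      MvPolynomial.aeval P (toMv (C e₀)) ≠ 0}, ∀ q ∈ RingHom.ker ev₀, evalPt P.1 q = 0 := fun P =>
    hkill P.1 ((aeval_toMv _ _).symm.trans P.2.1) ((aeval_toMv _ _).symm.trans_ne P.2.2)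
  let ψL : ∀ P : {P : Option σ → F // MvPolynomial.aeval P (toMv h₀) = 0 ∧
      MvPolynomial.aeval P (toMv (C e₀)) ≠ 0}, Localization.Away eb →+* F := fun P =>
    IsLocalization.Away.lift eb (g := Ideal.Quotient.lift _ (evalPt P.1) (hψ P))
      (isUnit_iff_ne_zero.2 ((aeval_toMv _ _).symm.trans_ne P.2.2))
  let re : Localization.Away eb ≃+* jL.range :=
    RingEquiv.ofBijective jL.rangeRestrict
      ⟨fun x y hxy => hjL' (congrArg Subtype.val hxy), jL.rangeRestrict_surjective⟩
  let Φ : _ → (A →+* F) := fun P =>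
    (ψL P).comp (re.symm.toRingHom.comp ((algebraMap A K).codRestrict jL.range hA))
  refine ⟨Φ, fun P P' hPP => Subtype.ext (funext fun o => ?_)⟩
  have hkey : ∀ P y z, jL z = algebraMap A K y → Φ P y = ψL P z := fun P y z hz => by
    show ψL P (re.symm _) = ψL P z
    congr 1
    rw [RingEquiv.symm_apply_eq]
    exact Subtype.ext hz.symm
  obtain ⟨y, hy⟩ := hint o
  let qo : (MvPolynomial σ R)[X] := o.elim X fun i => C (MvPolynomial.X i)
  have hqo : ∀ {B : Type u} [CommRing B] [Algebra R B] (P : Option σ → B), evalPt P qo = P o := by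
    intro B _ _ P
    rcases o with _ | i <;> simp [qo, evalPt]
  obtain ⟨za, hza⟩ := hA a
  obtain ⟨zi, hzi⟩ := hinv _ (Set.mem_insert _ _)
  obtain ⟨zq, hzq0⟩ := hrg qo
  have hzq : jL (za * zq) = algebraMap A K y := by
    rw [map_mul, hza, hzq0, hy]
    exact congrArg _ (hqo P₀)
  have hcoord : ∀ P, Φ P y = Φ P a * P.1 o := fun P => by
    have hψq : ψL P zq = P.1 o := by
      rw [hjL' (hzq0.trans (hjLS (Ideal.Quotient.mk _ qo)).symm)]
      exact (IsLocalization.Away.lift_eq _ _ _).trans ((Ideal.Quotient.lift_mk _ _ _).trans (hqo P.1))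
    rw [hkey P y (za * zq) hzq, hkey P a za hza, map_mul, hψq]
  have hane : ∀ P, Φ P a ≠ 0 := fun P h10 => by
    have h11 : jL (za * zi) = jL 1 := by rw [map_mul, hza, hzi, mul_inv_cancel₀ haK, map_one]
    have h12 := congrArg (ψL P) (hjL' h11)
    rw [map_mul, ← hkey P a za hza, h10, zero_mul, map_one] at h12
    exact zero_ne_one h12
  refine mul_left_cancel₀ (hane P) ?_
  rw [← hcoord P, hPP, hcoord P']

variable (k₀ : Type u) [Field k₀] [Algebra R k₀] [IsFractionRing R k₀] [PerfectField k₀]
  [IsDomain R] [IsNoetherianRing R] (A : Type u) [CommRing A] [IsDomain A] [Algebra R A]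
  [FaithfulSMul R A] [Algebra.FiniteType R A]

set_option maxHeartbeats 800000 in
include k₀ in
/-- **The hypersurface model.** -/
theorem exists_model : ∃ (n : ℕ) (h e : MvPolynomial (Option (Fin n)) R),
    (∀ d : ℕ, ringKrullDim R ≤ d → ringKrullDim A ≤ (d + n : ℕ)) ∧
    (∀ (F : Type u) [Field F] [Algebra R F], ∃ Φ :
      {P : Option (Fin n) → F // MvPolynomial.aeval P h = 0 ∧ MvPolynomial.aeval P e ≠ 0} → (A →+* F),
      Function.Injective Φ) ∧
    ∃ P : Option (Fin n) → FractionRing A, MvPolynomial.aeval P h = 0 ∧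
      MvPolynomial.aeval P (MvPolynomial.pderiv none h) ≠ 0 ∧ MvPolynomial.aeval P e ≠ 0 := by
  classical
  let K := FractionRing A
  have hRK : Function.Injective (algebraMap R K) := by
    rw [IsScalarTower.algebraMap_eq R A K]
    exact (IsFractionRing.injective A K).comp (FaithfulSMul.algebraMap_injective R A)
  let : Algebra k₀ K := (IsFractionRing.lift (K := k₀) hRK).toAlgebra
  have : IsScalarTower R k₀ K :=
    IsScalarTower.of_algebraMap_eq fun x => (IsFractionRing.lift_algebraMap hRK x).symm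
  have hess : Algebra.EssFiniteType R K :=
    have : Algebra.EssFiniteType A K := Algebra.EssFiniteType.of_isLocalization _ (nonZeroDivisors A)
    Algebra.EssFiniteType.comp R A K
  have : Algebra.EssFiniteType k₀ K := Algebra.EssFiniteType.of_comp R k₀ K
  obtain ⟨s, hs, hsep⟩ := exists_isTranscendenceBasis_and_isSeparable_of_perfectField k₀ K
  set n := s.card
  let sv : Fin n → K := fun i => (s.equivFin.symm i : K)
  have hrange : Set.range sv = (s : Set K) := by
    rw [show sv = Subtype.val ∘ s.equivFin.symm from rfl, Set.range_comp, Equiv.range_eq_univ,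
      Set.image_univ, Subtype.range_coe_subtype]
    rfl
  have hind : AlgebraicIndependent R sv :=
    (hs.1.comp s.equivFin.symm s.equivFin.symm.injective).restrictScalars (IsFractionRing.injective R k₀)
  let j : MvPolynomial (Fin n) R →ₐ[R] K := MvPolynomial.aeval sv
  have hj : Function.Injective j := hind
  let : Algebra (MvPolynomial (Fin n) R) K := j.toRingHom.toAlgebra
  have : FaithfulSMul (MvPolynomial (Fin n) R) K := (faithfulSMul_iff_algebraMap_injective _ _).2 hj
  let L := FractionRing (MvPolynomial (Fin n) R)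
  let : Algebra L K := FractionRing.liftAlgebra (MvPolynomial (Fin n) R) K
  have : IsScalarTower (MvPolynomial (Fin n) R) L K := FractionRing.isScalarTower_liftAlgebra _ K
  -- separability over `L`
  let E : IntermediateField k₀ K := IntermediateField.adjoin k₀ (s : Set K)
  have hjL : ∀ q, algebraMap L K (algebraMap (MvPolynomial (Fin n) R) L q) = j q := fun q =>
    (IsScalarTower.algebraMap_apply (MvPolynomial (Fin n) R) L K q).symm
  have hk₀L : ∀ c : k₀, algebraMap k₀ K c ∈ (algebraMap L K).fieldRange := fun c => by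
    obtain ⟨a, b, -, rfl⟩ := IsFractionRing.div_surjective (A := R) c
    rw [map_div₀, ← IsScalarTower.algebraMap_apply, ← IsScalarTower.algebraMap_apply]
    exact div_mem ⟨_, (hjL (MvPolynomial.C a)).trans (MvPolynomial.aeval_C _ _)⟩
      ⟨_, (hjL (MvPolynomial.C b)).trans (MvPolynomial.aeval_C _ _)⟩
  have hEL : E.toSubfield ≤ (algebraMap L K).fieldRange := by
    rw [IntermediateField.adjoin_toSubfield, Subfield.closure_le, ← hrange]
    rintro _ (⟨c, rfl⟩ | ⟨i, rfl⟩)
    · exact hk₀L c
    · exact ⟨_, (hjL (MvPolynomial.X i)).trans (MvPolynomial.aeval_X _ _)⟩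
  let rr : L ≃+* (algebraMap L K).fieldRange :=
    RingEquiv.ofBijective (algebraMap L K).rangeRestrictField
      ⟨RingHom.injective _, (algebraMap L K).rangeRestrictField_bijective.2⟩
  let : Algebra E L := (rr.symm.toRingHom.comp (Subfield.inclusion hEL)).toAlgebra
  have : IsScalarTower E L K := IsScalarTower.of_algebraMap_eq fun x => by
    show (x : K) = algebraMap L K (rr.symm ⟨x.1, hEL x.2⟩)
    exact (congrArg Subtype.val (rr.apply_symm_apply ⟨x.1, hEL x.2⟩)).symm
  have : Algebra.IsSeparable L K := Algebra.isSeparable_tower_top_of_isSeparable E L K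
  -- finiteness over `L`
  obtain ⟨gens, hgens⟩ := Algebra.FiniteType.out (R := R) (A := A)
  let gK : Finset K := gens.image (algebraMap A K)
  have hAK : ∀ y : A, algebraMap A K y ∈ IntermediateField.adjoin L (gK : Set K) := fun y => by
    refine Algebra.adjoin_induction (p := fun y _ => algebraMap A K y ∈ IntermediateField.adjoin L (gK : Set K))
      (fun x hx => IntermediateField.subset_adjoin _ _ (Finset.mem_image_of_mem _ hx)) (fun r => ?_)
      (fun a b _ _ ha hb => by rw [map_add]; exact add_mem ha hb)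
      (fun a b _ _ ha hb => by rw [map_mul]; exact mul_mem ha hb) (hgens.ge (Algebra.mem_top (x := y)))
    rw [← IsScalarTower.algebraMap_apply, IsScalarTower.algebraMap_apply R k₀ K]
    obtain ⟨l, hl⟩ := hk₀L (algebraMap R k₀ r)
    rw [← hl]
    exact IntermediateField.algebraMap_mem _ l
  have hfd : FiniteDimensional L K := by
    have htop : IntermediateField.adjoin L (gK : Set K) = ⊤ := eq_top_iff.2 fun x _ => by
      obtain ⟨a, b, -, rfl⟩ := IsFractionRing.div_surjective (A := A) x
      exact div_mem (hAK a) (hAK b)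
    have := IntermediateField.finiteDimensional_adjoin (K := L) (L := K) (S := (gK : Set K))
      fun x _ => Algebra.IsIntegral.isIntegral x
    rw [htop] at this
    exact Module.Finite.equiv IntermediateField.topEquiv.toLinearEquiv
  obtain ⟨θ, hθ⟩ := Field.exists_primitive_element L K
  let g := minpoly L θ
  let h₀ : (MvPolynomial (Fin n) R)[X] := IsLocalization.integerNormalization (nonZeroDivisors _) g
  obtain ⟨⟨b, hb⟩, hbg⟩ :=
    IsLocalization.integerNormalization_map_to_map (nonZeroDivisors (MvPolynomial (Fin n) R)) g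
  let P₀ : Option (Fin n) → K := fun o => o.elim θ sv
  let ev₀ := evalPt (R := R) P₀
  have hev₀ : ∀ q, ev₀ q = aeval θ q := fun q => rfl
  have hclear : ∀ w : L[X], ∃ c : MvPolynomial (Fin n) R, c ≠ 0 ∧ ∃ w₀ : (MvPolynomial (Fin n) R)[X],
      w₀.map (algebraMap _ L) = C (algebraMap _ L c) * w ∧ ev₀ w₀ = j c * aeval θ w := fun w => by
    obtain ⟨⟨c, hc⟩, hcw⟩ :=
      IsLocalization.integerNormalization_map_to_map (nonZeroDivisors (MvPolynomial (Fin n) R)) w
    refine ⟨c, nonZeroDivisors.ne_zero hc, _, hcw.trans ?_, ?_⟩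
    · rw [Algebra.smul_def, ← Polynomial.algebraMap_eq, ← IsScalarTower.algebraMap_apply]
    · rw [hev₀, ← aeval_map_algebraMap L θ, hcw, Algebra.smul_def, map_mul,
        IsScalarTower.algebraMap_apply (MvPolynomial (Fin n) R) L L[X], Polynomial.algebraMap_eq, aeval_C,
        hjL]
  have hnum : ∀ x : K, ∃ c : MvPolynomial (Fin n) R, c ≠ 0 ∧ ∃ q, ev₀ q = j c * x := fun x => by
    have hx : x ∈ L⟮θ⟯.toSubalgebra := by rw [hθ]; exact IntermediateField.mem_top
    rw [IntermediateField.adjoin_simple_toSubalgebra_of_isAlgebraic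
      (Algebra.IsAlgebraic.isAlgebraic θ), Algebra.adjoin_singleton_eq_range_aeval] at hx
    obtain ⟨w, rfl⟩ := hx
    obtain ⟨c, hc, w₀, -, hw₀⟩ := hclear w
    exact ⟨c, hc, w₀, hw₀⟩
  have hmapinj : Function.Injective
      (Polynomial.map (algebraMap (MvPolynomial (Fin n) R) L)) :=
    Polynomial.map_injective _ (IsFractionRing.injective _ _)
  have hh₀ : h₀.map (algebraMap _ L) = C (algebraMap _ L b) * g := hbg.trans (by
    rw [Algebra.smul_def, ← Polynomial.algebraMap_eq, ← IsScalarTower.algebraMap_apply])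
  have hker : ∀ q : (MvPolynomial (Fin n) R)[X], ev₀ q = 0 → ∃ d : MvPolynomial (Fin n) R, d ≠ 0 ∧
      h₀ ∣ C d * q := fun q hq => by
    obtain ⟨w, hw⟩ : g ∣ q.map (algebraMap _ L) := minpoly.dvd L θ (by
      rw [aeval_map_algebraMap]; exact hq)
    obtain ⟨c, hc, w₀, hw₀, -⟩ := hclear w
    refine ⟨b * c, mul_ne_zero (nonZeroDivisors.ne_zero hb) hc, w₀, hmapinj ?_⟩
    rw [Polynomial.map_mul, Polynomial.map_mul, map_C, map_mul, map_mul, hh₀, hw₀, hw]
    ring
  obtain ⟨Q, hQ⟩ := IsNoetherian.noetherian (RingHom.ker ev₀)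
  choose d hd hdvd using fun q : Q => hker q.1 (hQ.le (Submodule.subset_span q.2))
  -- a common denominator in `A`
  obtain ⟨⟨a, ha⟩, hint⟩ := IsLocalization.exist_integer_multiples (nonZeroDivisors A) Finset.univ P₀
  have haK : algebraMap A K a ≠ 0 := by
    rw [Ne, map_eq_zero_iff _ (IsFractionRing.injective A K)]
    exact nonZeroDivisors.ne_zero ha
  let T : Finset K := insert (algebraMap A K a)⁻¹ gK
  choose D hD num hnumD using fun x : T => hnum x.1
  let e₀ : MvPolynomial (Fin n) R := (∏ x, D x) * ∏ q, d q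
  have he₀ : e₀ ≠ 0 :=
    mul_ne_zero (Finset.prod_ne_zero_iff.2 fun x _ => hD x) (Finset.prod_ne_zero_iff.2 fun q _ => hd q)
  refine ⟨n, toMv h₀, toMv (C e₀), ?_, ?_, P₀, ?_, ?_, ?_⟩
  · intro dR hdR
    rw [ringKrullDim_le_iff_isMaximal_height_le]
    intro m hm
    obtain ⟨h1, -⟩ := DimFormula.trdeg_formula R (m.under R) m
    have h2 : Algebra.trdeg R A ≤ (n : Cardinal.{u}) := by
      refine (trdeg_le_of_injective (IsScalarTower.toAlgHom R A K) (IsFractionRing.injective A K)).trans ?_
      have h3 : Algebra.trdeg R k₀ = 0 :=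
        have := IsLocalization.isAlgebraic k₀ (nonZeroDivisors R)
        trdeg_eq_zero
      rw [← trdeg_add_eq R k₀ (A := K), h3, zero_add, ← hs.cardinalMk_eq_trdeg,
        Cardinal.mk_coe_finset]
    have h4 : (m.under R).height ≤ (dR : ℕ∞) := by
      have := (Ideal.height_le_ringKrullDim_of_ne_top (Ideal.IsPrime.ne_top (inferInstance : (m.under R).IsPrime))).trans hdR
      exact_mod_cast this
    have h5 : (m.height : Cardinal.{u}) ≤ ((dR + n : ℕ) : ℕ∞) := by
      rw [Cardinal.ofENat_nat, Nat.cast_add]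
      refine (le_self_add.trans h1).trans (add_le_add ?_ h2)
      rw [← Cardinal.ofENat_nat]
      exact Cardinal.ofENat_le_ofENat.2 h4
    exact_mod_cast Cardinal.ofENat_le_ofENat.1 h5
  · intro F _ _
    refine exists_hom_injective hgens P₀ h₀ e₀ ?_ a haK (fun o => ?_) (fun x hx => ?_) F (fun P hP1 hP2 q hq => ?_)
    · show ev₀ (C e₀) ≠ 0
      rw [hev₀, aeval_C]
      exact fun h0 => he₀ (hj (h0.trans (map_zero j).symm))
    · obtain ⟨y, hy⟩ := hint o (Finset.mem_univ o)
      exact ⟨y, hy.trans (Algebra.smul_def _ _)⟩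
    · have hxT : x ∈ T := by
        rcases hx with rfl | ⟨z, hz, rfl⟩
        · exact Finset.mem_insert_self _ _
        · exact Finset.mem_insert_of_mem (Finset.mem_image_of_mem _ hz)
      refine ⟨D ⟨x, hxT⟩, dvd_mul_of_dvd_left (Finset.dvd_prod_of_mem D (Finset.mem_univ _)) _,
        num ⟨x, hxT⟩, ?_⟩
      show ev₀ _ = ev₀ (C _) * x
      rw [hev₀ (C _), aeval_C]
      exact hnumD ⟨x, hxT⟩
    · suffices Submodule.span _ (Q : Set (MvPolynomial (Fin n) R)[X]) ≤ RingHom.ker (evalPt P) from
        this (hQ.ge hq)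
      refine Submodule.span_le.2 fun q hq => ?_
      obtain ⟨w, hw⟩ := hdvd ⟨q, hq⟩
      have h8 := congrArg (evalPt P) hw
      rw [map_mul, map_mul, hP1, zero_mul, mul_eq_zero] at h8
      refine h8.resolve_left fun h9 => hP2 ?_
      obtain ⟨r, hr⟩ : d ⟨q, hq⟩ ∣ e₀ :=
        dvd_mul_of_dvd_right (Finset.dvd_prod_of_mem d (Finset.mem_univ _)) _
      rw [hr, map_mul, map_mul, h9, zero_mul]
  · rw [aeval_toMv]
    show ev₀ h₀ = 0
    rw [hev₀, ← aeval_map_algebraMap L θ, hh₀, map_mul, minpoly.aeval, mul_zero]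
  · rw [pderiv_toMv, aeval_toMv]
    show ev₀ (derivative h₀) ≠ 0
    rw [hev₀, ← aeval_map_algebraMap L θ, ← derivative_map, hh₀, derivative_C_mul, map_mul, aeval_C, hjL]
    exact mul_ne_zero (fun h0 => nonZeroDivisors.ne_zero hb (hj (h0.trans (map_zero j).symm)))
      ((Algebra.IsSeparable.isSeparable L θ).aeval_derivative_ne_zero (minpoly.aeval L θ))
  · rw [aeval_toMv]
    show ev₀ (C e₀) ≠ 0
    rw [hev₀, aeval_C]
    exact fun h0 => he₀ (hj (h0.trans (map_zero j).symm))

end Groth.Agent.AbscissaLB75
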