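import Groth.Agent.AbscissaLB75.Plane.Count
import Mathlib.Algebra.MvPolynomial.PDeriv
import Mathlib.Algebra.MvPolynomial.Degrees

/-!
A hypersurface of degree at most `D` in affine space over a field of `Q` elements with a smooth
rational point has at least `Q ^ dim / C` rational points, off any given hypersurface of degree at
most `D` missing that point: cut by the planes through the point containing the last axis.
-/

noncomputable section

universe u v

namespace Groth.Agent.AbscissaLB75

open Polynomial

variable {k : Type u} [Field k]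

theorem DegLE.mono {a b : ℕ} {g : k[X][X]} (h : DegLE a g) (hab : a ≤ b) : DegLE b g :=
  ⟨h.1.trans hab, fun i => (h.2 i).trans hab⟩

theorem degLE_zero_C (c : k) : DegLE 0 (C (C c) : k[X][X]) := by
  refine ⟨(natDegree_C _).le, fun i => ?_⟩
  rcases eq_or_ne i 0 with rfl | hi
  · rw [coeff_C_zero, natDegree_C]
  · rw [coeff_C_of_ne_zero hi, natDegree_zero]

theorem DegLE.mul {a b : ℕ} {p q : k[X][X]} (hp : DegLE a p) (hq : DegLE b q) : DegLE (a + b) (p * q) := by
  refine ⟨natDegree_mul_le.trans (add_le_add hp.1 hq.1), fun i => ?_⟩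
  rw [coeff_mul]
  exact natDegree_sum_le_of_forall_le _ _ fun x _ =>
    natDegree_mul_le.trans (add_le_add (hp.2 _) (hq.2 _))

theorem DegLE.pow {a : ℕ} {p : k[X][X]} (hp : DegLE a p) : ∀ n : ℕ, DegLE (n * a) (p ^ n)
  | 0 => by rw [pow_zero, Nat.zero_mul, ← C_1, ← C_1]; exact degLE_zero_C 1
  | n + 1 => by rw [pow_succ, Nat.succ_mul]; exact (hp.pow n).mul hp

theorem degLE_prod {σ : Type v} (f : σ → k[X][X]) (hf : ∀ o, DegLE 1 (f o)) (d : σ →₀ ℕ)
    (s : Finset σ) : DegLE (∑ o ∈ s, d o) (∏ o ∈ s, f o ^ d o) := by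
  classical
  induction s using Finset.induction with
  | empty => rw [Finset.sum_empty, Finset.prod_empty, ← C_1, ← C_1]; exact degLE_zero_C 1
  | insert a s ha ih =>
      rw [Finset.sum_insert ha, Finset.prod_insert ha]
      exact (((hf a).pow (d a)).mono (Nat.mul_one _).le).mul ih

theorem degLE_aeval {σ : Type v} (f : σ → k[X][X]) (hf : ∀ o, DegLE 1 (f o)) (p : MvPolynomial σ k) :
    DegLE p.totalDegree (MvPolynomial.eval₂Hom (C.comp C) f p) := by
  have hd : ∀ d ∈ p.support,
      DegLE p.totalDegree (MvPolynomial.eval₂Hom (C.comp C) f (MvPolynomial.monomial d (p.coeff d))) := by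
    intro d hd
    rw [MvPolynomial.eval₂Hom_monomial]
    exact (((degLE_zero_C _).mul (degLE_prod f hf d d.support)).mono
      ((Nat.zero_add _).le.trans (MvPolynomial.le_totalDegree hd)))
  conv => enter [2]; rw [p.as_sum, map_sum]
  refine ⟨natDegree_sum_le_of_forall_le _ _ fun d h => (hd d h).1, fun i => ?_⟩
  rw [finsetSum_coeff]
  exact natDegree_sum_le_of_forall_le _ _ fun d h => (hd d h).2 i

section Plane

variable {ι : Type v}

/-- The coordinates on the plane through `P₀` in the directions `(u, 0)` and the last axis. -/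
def coord (P₀ : Option ι → k) (u : ι → k) : Option ι → k[X][X] :=
  fun o => o.elim X fun i => C (C (P₀ (some i)) + C (u i) * X)

/-- Restriction to that plane. -/
def restr (P₀ : Option ι → k) (u : ι → k) : MvPolynomial (Option ι) k →+* k[X][X] :=
  MvPolynomial.eval₂Hom (C.comp C) (coord P₀ u)

theorem degLE_coord (P₀ : Option ι → k) (u : ι → k) (o : Option ι) : DegLE 1 (coord P₀ u o) := by
  rcases o with _ | i
  · refine ⟨natDegree_X.le, fun i => ?_⟩
    show (coeff (X : k[X][X]) i).natDegree ≤ 1
    rw [coeff_X]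
    split <;> simp
  · refine ⟨(natDegree_C _).trans_le zero_le_one, fun j => ?_⟩
    show (coeff (C (C (P₀ (some i)) + C (u i) * X) : k[X][X]) j).natDegree ≤ 1
    rw [coeff_C]
    split
    · refine natDegree_add_le_of_degree_le ((natDegree_C _).trans_le zero_le_one) ?_
      exact (natDegree_C_mul_le _ _).trans natDegree_X.le
    · simp

/-- The point with coordinates `(t, z)` of that plane. -/
def point (P₀ : Option ι → k) (u : ι → k) (t z : k) : Option ι → k :=
  fun o => o.elim z fun i => P₀ (some i) + u i * t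

theorem ev_restr (P₀ : Option ι → k) (u : ι → k) (t z : k) (p : MvPolynomial (Option ι) k) :
    ev t z (restr P₀ u p) = MvPolynomial.eval (point P₀ u t z) p := by
  refine RingHom.congr_fun (MvPolynomial.ringHom_ext (f := (ev t z).comp (restr P₀ u))
    (g := MvPolynomial.eval (point P₀ u t z)) (fun c => ?_) fun o => ?_) p
  · simp [restr, ev_apply]
  · rcases o with _ | i <;> simp [restr, ev_apply, coord, point]

theorem derivative_restr (P₀ : Option ι → k) (u : ι → k) (p : MvPolynomial (Option ι) k) :
    derivative (restr P₀ u p) = restr P₀ u (MvPolynomial.pderiv none p) := by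
  classical
  induction p using MvPolynomial.induction_on with
  | C a => simp [restr]
  | add p q hp hq => simp [hp, hq]
  | mul_X p o hp =>
      have hX : derivative (restr P₀ u (MvPolynomial.X o)) =
          restr P₀ u (MvPolynomial.pderiv none (MvPolynomial.X o)) := by
        rcases o with _ | i
        · simp [restr, coord]
        · simp [restr, coord, MvPolynomial.pderiv_X_of_ne]
      rw [map_mul, derivative_mul, hp, hX, MvPolynomial.pderiv_mul, map_add, map_mul, map_mul]

/-- **Rational points on hypersurfaces with a smooth rational point.** -/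
theorem card_points_ge [Finite k] [Fintype ι] {D : ℕ} {h e : MvPolynomial (Option ι) k}
    {P₀ : Option ι → k} (hh : h.totalDegree ≤ D) (he : e.totalDegree ≤ D)
    (h0 : MvPolynomial.eval P₀ h = 0) (h1 : MvPolynomial.eval P₀ (MvPolynomial.pderiv none h) ≠ 0)
    (e0 : MvPolynomial.eval P₀ e ≠ 0) (hQ : cst D ≤ Nat.card k) :
    Nat.card k ^ Fintype.card ι ≤
      cst D * Nat.card {P : Option ι → k // MvPolynomial.eval P h = 0 ∧ MvPolynomial.eval P e ≠ 0} := by
  classical
  haveI := Fintype.ofFinite k
  set Pts := {P : Option ι → k // MvPolynomial.eval P h = 0 ∧ MvPolynomial.eval P e ≠ 0}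
  have hP₀ : ∀ u : ι → k, point P₀ u 0 (P₀ none) = P₀ := fun u => funext fun o => by
    rcases o with _ | i <;> simp [point]
  have hu : ∀ u : ι → k, Nat.card k ≤ cst D * Nat.card (Zeros (restr P₀ u h) (restr P₀ u e)) :=
    fun u => card_zeros_ge (z₀ := P₀ none)
      ((degLE_aeval _ (degLE_coord P₀ u) h).mono hh) ((degLE_aeval _ (degLE_coord P₀ u) e).mono he)
      (by rw [ev_restr, hP₀, h0]) (by rw [derivative_restr, ev_restr, hP₀]; exact h1)
      (by rw [ev_restr, hP₀]; exact e0) hQ
  let S := Σ u : ι → k, Zeros (restr P₀ u h) (restr P₀ u e)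
  let F : S → Pts := fun x => ⟨point P₀ x.1 x.2.1.1 x.2.1.2, (ev_restr _ _ _ _ h).symm.trans x.2.2.2.1,
    fun h' => x.2.2.2.2 ((ev_restr _ _ _ _ e).trans h')⟩
  have hinj : Function.Injective fun x : S => (F x, x.2.1.1) := by
    rintro ⟨u, ⟨⟨t, z⟩, ht, hz⟩⟩ ⟨u', ⟨⟨t', z'⟩, ht', hz'⟩⟩ hxy
    simp only [Prod.mk.injEq] at hxy
    obtain ⟨hF, rfl⟩ := hxy
    have hpt : point P₀ u t z = point P₀ u' t z' := congrArg Subtype.val hF
    obtain rfl : z = z' := congrFun hpt none
    obtain rfl : u = u' := funext fun i => mul_right_cancel₀ ht (add_left_cancel (congrFun hpt (some i)))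
    rfl
  have h2 : Nat.card S ≤ Nat.card Pts * Nat.card k := by
    rw [← Nat.card_prod]
    exact Nat.card_le_card_of_injective _ hinj
  have h3 : Nat.card k ^ Fintype.card ι * Nat.card k ≤ cst D * Nat.card S := by
    rw [Nat.card_sigma, Finset.mul_sum]
    refine le_trans ?_ (Finset.sum_le_sum fun u _ => hu u)
    rw [Finset.sum_const, Finset.card_univ, Fintype.card_fun, Nat.card_eq_fintype_card, smul_eq_mul]
  refine Nat.le_of_mul_le_mul_right (h3.trans ?_) Nat.card_pos
  rw [mul_assoc]
  exact Nat.mul_le_mul_left _ h2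

end Plane

end Groth.Agent.AbscissaLB75
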