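import Groth.Agent.AbscissaLB75.Planes
import Groth.Agent.AbscissaLB75.Model
import Groth.Agent.ZetaLib.RingCount

/-!
A finitely generated domain has at least `Q ^ n / C` points in the fields of `Q` elements that
receive a fixed finitely generated extension of the base.
-/

noncomputable section

universe u

namespace Groth.Agent.AbscissaLB75

variable {R : Type u} [CommRing R] [IsDomain R] [IsNoetherianRing R] (k₀ : Type u) [Field k₀]
  [Algebra R k₀] [IsFractionRing R k₀] [PerfectField k₀] (A : Type u) [CommRing A] [IsDomain A]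
  [Algebra R A] [FaithfulSMul R A] [Algebra.FiniteType R A] [Algebra.FiniteType ℤ A]

include k₀ in
theorem exists_lower : ∃ (n C : ℕ) (T : Subalgebra R (FractionRing A)),
    Algebra.FiniteType R ↥T ∧ 0 < C ∧
    (∀ d : ℕ, ringKrullDim R ≤ d → ringKrullDim A ≤ (d + n : ℕ)) ∧
    ∀ (F : Type u) [Field F] [Finite F] [Algebra R F] (_ : ↥T →ₐ[R] F), C ≤ Nat.card F →
      Nat.card F ^ n ≤ C * Nat.card (A →+* F) := by
  classical
  obtain ⟨n, h, e, hdim, hΦ, P, hP, hd, he⟩ := exists_model (R := R) k₀ A
  set w := MvPolynomial.aeval P (MvPolynomial.pderiv none h) * MvPolynomial.aeval P e with hw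
  let s : Finset (FractionRing A) := insert w⁻¹ (Finset.univ.image P)
  let T := Algebra.adjoin R (s : Set (FractionRing A))
  have hT : Algebra.FiniteType R T := ⟨(Subalgebra.fg_top T).2 ⟨s, rfl⟩⟩
  refine ⟨n, cst (max h.totalDegree e.totalDegree) + 1, T, hT, Nat.succ_pos _, hdim,
    fun F _ _ _ ψ hQ => ?_⟩
  let P' : Option (Fin n) → T := fun o =>
    ⟨P o, Algebra.subset_adjoin (Finset.mem_insert_of_mem (Finset.mem_image_of_mem _ (Finset.mem_univ o)))⟩
  let wi : T := ⟨w⁻¹, Algebra.subset_adjoin (Finset.mem_insert_self _ _)⟩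
  have hval : ∀ q, (MvPolynomial.aeval P' q : FractionRing A) = MvPolynomial.aeval P q := fun q =>
    (MvPolynomial.comp_aeval_apply P' T.val q)
  have hmul : MvPolynomial.aeval P' (MvPolynomial.pderiv none h) * MvPolynomial.aeval P' e * wi = 1 :=
    Subtype.ext (by
      show _ * _ * w⁻¹ = (1 : FractionRing A)
      rw [hval, hval, ← hw, mul_inv_cancel₀ (mul_ne_zero hd he)])
  let f := algebraMap R F
  let P₁ : Option (Fin n) → F := ψ ∘ P'
  have hev : ∀ q, MvPolynomial.eval P₁ (MvPolynomial.map f q) = ψ (MvPolynomial.aeval P' q) := fun q => by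
    rw [MvPolynomial.eval_map, ← MvPolynomial.aeval_def]
    exact (MvPolynomial.comp_aeval_apply P' ψ q).symm
  have hev' : ∀ (Q : Option (Fin n) → F) q,
      MvPolynomial.eval Q (MvPolynomial.map f q) = MvPolynomial.aeval Q q := fun Q q => by
    rw [MvPolynomial.eval_map, ← MvPolynomial.aeval_def]
  have h1 : MvPolynomial.eval P₁ (MvPolynomial.map f h) = 0 := by
    rw [hev, show MvPolynomial.aeval P' h = 0 from Subtype.ext ((hval h).trans hP), map_zero]
  have hne := congrArg ψ hmul
  rw [map_mul, map_mul, map_one] at hne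
  have hmain := card_points_ge (D := max h.totalDegree e.totalDegree) (h := MvPolynomial.map f h)
    (e := MvPolynomial.map f e) (P₀ := P₁)
    ((Finset.sup_mono (MvPolynomial.support_map_subset _ _)).trans (le_max_left _ _))
    ((Finset.sup_mono (MvPolynomial.support_map_subset _ _)).trans (le_max_right _ _))
    h1
    (by
      rw [MvPolynomial.pderiv_map, hev]
      exact fun h0 => by rw [h0, zero_mul, zero_mul] at hne; exact zero_ne_one hne)
    (by
      rw [hev]
      exact fun h0 => by rw [h0, mul_zero, zero_mul] at hne; exact zero_ne_one hne)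
    (by omega)
  rw [Fintype.card_fin] at hmain
  obtain ⟨Φ, hΦi⟩ := hΦ F
  have := ZetaLib.finite_ringHom (A := A) F
  refine hmain.trans (Nat.mul_le_mul (Nat.le_succ _) ?_)
  exact Nat.card_le_card_of_injective
    (fun Q => Φ ⟨Q.1, (hev' _ _).symm.trans Q.2.1, (hev' _ _).symm.trans_ne Q.2.2⟩)
    fun Q Q' hQQ => Subtype.ext (congrArg Subtype.val (hΦi hQQ) :)

/-- Homomorphisms to a finite field by their kernels. -/
theorem exists_kernels (A : Type u) [CommRing A] [Algebra.FiniteType ℤ A] (p : ℕ) [Fact p.Prime]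
    (F : Type u) [Field F] [Finite F] [CharP F p] (d : ℕ) (hd : Nat.card F = p ^ d) :
    ∃ s : Finset (MaximalSpectrum A),
      Nat.card (A →+* F) ≤ d * s.card ∧
      ∀ m ∈ s, Nat.card (A ⧸ m.1) ∈ Set.Icc p (Nat.card F) := by
  classical
  have := ZetaLib.finite_ringHom (A := A) F
  haveI := Fintype.ofFinite (A →+* F)
  letI : Algebra (ZMod p) F := ZMod.algebra F p
  haveI : Module.Finite (ZMod p) F := Module.Finite.of_finite
  obtain rfl : d = Module.finrank (ZMod p) F := by
    apply Nat.pow_right_injective (Fact.out : p.Prime).two_le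
    simp only
    rw [← hd, Module.natCard_eq_pow_finrank (K := ZMod p), Nat.card_zmod]
  have hmax : ∀ φ : A →+* F, (RingHom.ker φ).IsMaximal := fun φ =>
    Ideal.Quotient.maximal_of_isField _ (MulEquiv.isField
      (Finite.isField_of_domain φ.range) (RingHom.quotientKerEquivRange φ).toMulEquiv)
  let K : (A →+* F) → MaximalSpectrum A := fun φ => ⟨RingHom.ker φ, hmax φ⟩
  refine ⟨Finset.univ.image K, ?_, ?_⟩
  · rw [Nat.card_eq_fintype_card, ← Finset.card_univ]
    refine Finset.card_le_mul_card_image _ _ fun m hm => ?_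
    obtain ⟨φ₀, -, rfl⟩ := Finset.mem_image.1 hm
    letI := Ideal.Quotient.field (K φ₀).1
    have hcmp : ∀ φ ∈ Finset.univ.filter (fun φ => K φ = K φ₀),
        (K φ₀).1 ≤ RingHom.ker φ := fun φ hφ =>
      (congrArg MaximalSpectrum.asIdeal (Finset.mem_filter.1 hφ).2).ge
    let g : A ⧸ (K φ₀).1 →+* F := RingHom.kerLift φ₀
    haveI : CharP (A ⧸ (K φ₀).1) p := (g.charP_iff g.injective p).2 inferInstance
    letI := ZMod.algebra (A ⧸ (K φ₀).1) p
    let gA : A ⧸ (K φ₀).1 →ₐ[ZMod p] F := { g with
      commutes' := fun c => RingHom.congr_fun (RingHom.ext_zmod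
        (g.comp (algebraMap (ZMod p) _)) (algebraMap (ZMod p) F)) c }
    haveI : Finite (A ⧸ (K φ₀).1) := Finite.of_injective g g.injective
    haveI : Module.Finite (ZMod p) (A ⧸ (K φ₀).1) := Module.Finite.of_finite
    refine le_trans ?_ ((card_algHom_le_finrank (ZMod p) (A ⧸ (K φ₀).1) F).trans
      (LinearMap.finrank_le_finrank_of_injective (f := gA.toLinearMap) g.injective))
    rw [← Fintype.card_coe, ← Nat.card_eq_fintype_card]
    haveI : Finite (A ⧸ (K φ₀).1 →ₐ[ZMod p] F) := Finite.of_injective _ DFunLike.coe_injective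
    refine Nat.card_le_card_of_injective (fun φ =>
      { Ideal.Quotient.lift _ φ.1 (hcmp φ.1 φ.2) with
        commutes' := fun c => RingHom.congr_fun (RingHom.ext_zmod
          ((Ideal.Quotient.lift _ φ.1 (hcmp φ.1 φ.2)).comp (algebraMap (ZMod p) _)) (algebraMap (ZMod p) F)) c })
      fun φ φ' h => Subtype.ext (RingHom.ext fun x => ?_)
    exact congrArg (fun t => t (Ideal.Quotient.mk _ x)) h
  · intro m hm
    obtain ⟨φ₀, -, rfl⟩ := Finset.mem_image.1 hm
    letI := Ideal.Quotient.field (K φ₀).1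
    let g : A ⧸ (K φ₀).1 →+* F := RingHom.kerLift φ₀
    haveI : Finite (A ⧸ (K φ₀).1) := Finite.of_injective g g.injective
    refine ⟨?_, Nat.card_le_card_of_injective g g.injective⟩
    haveI : CharP (A ⧸ (K φ₀).1) p := (g.charP_iff g.injective p).2 inferInstance
    letI := ZMod.algebra (A ⧸ (K φ₀).1) p
    calc p = Nat.card (ZMod p) := (Nat.card_zmod p).symm
      _ ≤ _ := Nat.card_le_card_of_injective _ (algebraMap (ZMod p) (A ⧸ (K φ₀).1)).injective

end Groth.Agent.AbscissaLB75
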